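import Mathlib.Data.Set.Card
import Mathlib.Algebra.Order.Chebyshev
import Mathlib.Combinatorics.Enumerative.DoubleCounting
import Mathlib.Tactic

/-!
Owner: helper16. Aschbacher's criterion, `NoPairing`: Higman's inequality for generalized quadrangles.

* `gq_false`: no generalized quadrangle has more than `t ^ 2 + 1` points on a line and `t + 1 >= 3` lines at
  a point.
-/

set_option autoImplicit false

namespace CfsgLib.AschCrit

open Finset

universe v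

/-- Higman's inequality `s ≤ t ^ 2`. -/
theorem gq_false {Ω : Type v} [Finite Ω] (Λ : Set (Set Ω)) (s t : ℕ) (ht : 2 ≤ t) (hst : t * t < s)
    (hne : Λ.Nonempty) (hsize : ∀ ℓ ∈ Λ, ℓ.ncard = s + 1) (hdeg : ∀ x, {ℓ ∈ Λ | x ∈ ℓ}.ncard = t + 1)
    (hmeet : ∀ ℓ ∈ Λ, ∀ m ∈ Λ, ℓ ≠ m → ∀ x ∈ ℓ, ∀ y ∈ ℓ, x ∈ m → y ∈ m → x = y)
    (hax : ∀ ℓ ∈ Λ, ∀ x ∉ ℓ, ∃! y, y ∈ ℓ ∧ ∃ m ∈ Λ, x ∈ m ∧ y ∈ m) : False := by
  classical
  haveI := Fintype.ofFinite Ω
  set L : Finset (Set Ω) := (Set.toFinite Λ).toFinset with hL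
  have hmemL : ∀ {ℓ}, ℓ ∈ L ↔ ℓ ∈ Λ := fun {ℓ} => Set.Finite.mem_toFinset _
  let pts : Set Ω → Finset Ω := fun ℓ => univ.filter (· ∈ ℓ)
  have hpts : ∀ {ℓ : Set Ω} {x}, x ∈ pts ℓ ↔ x ∈ ℓ := by simp [pts]
  have hcard : ∀ {ℓ}, ℓ ∈ L → (pts ℓ).card = s + 1 := fun {ℓ} hℓ => by
    rw [← hsize ℓ (hmemL.1 hℓ), ← Set.ncard_coe_finset]
    congr 1
    ext x
    simp [pts]
  have hthr : ∀ x, (L.filter (x ∈ ·)).card = t + 1 := fun x => by
    rw [← hdeg x, ← Set.ncard_coe_finset]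
    congr 1
    ext ℓ
    simp [hmemL]
  let Meets : Set Ω → Set Ω → Prop := fun ℓ m => ∃ x, x ∈ ℓ ∧ x ∈ m
  have uniq : ∀ {ℓ x m m'}, ℓ ∈ L → x ∉ ℓ → m ∈ L → m' ∈ L → x ∈ m → x ∈ m' → Meets m ℓ → Meets m' ℓ → m = m' := by
    rintro ℓ x m m' hℓ hx hm hm' hxm hxm' ⟨y, hym, hyℓ⟩ ⟨y', hym', hy'ℓ⟩
    obtain rfl : y = y' := (hax ℓ (hmemL.1 hℓ) x hx).unique ⟨hyℓ, m, hmemL.1 hm, hxm, hym⟩
      ⟨hy'ℓ, m', hmemL.1 hm', hxm', hym'⟩
    by_contra hne'
    exact hx (hmeet m (hmemL.1 hm) m' (hmemL.1 hm') hne' x hxm y hym hxm' hym' ▸ hyℓ)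
  have line : ∀ {ℓ x}, ℓ ∈ L → x ∉ ℓ → ∃ m ∈ L, x ∈ m ∧ Meets m ℓ := by
    intro ℓ x hℓ hx
    obtain ⟨y, ⟨hy, m, hm, hxm, hym⟩, -⟩ := hax ℓ (hmemL.1 hℓ) x hx
    exact ⟨m, hmemL.2 hm, hxm, y, hym, hy⟩
  -- the lines meeting a line
  let M : Set Ω → Finset (Set Ω) := fun ℓ => L.filter fun m => m ≠ ℓ ∧ Meets m ℓ
  have hM : ∀ {ℓ}, ℓ ∈ L → (M ℓ).card = (s + 1) * t := by
    intro ℓ hℓ
    have e : M ℓ = (pts ℓ).biUnion fun y => (L.filter (y ∈ ·)).erase ℓ := by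
      ext m
      simp only [M, mem_filter, mem_biUnion, mem_erase, hpts, Meets]
      constructor
      · rintro ⟨hm, hne', x, hxm, hxℓ⟩; exact ⟨x, hxℓ, hne', hm, hxm⟩
      · rintro ⟨x, hxℓ, hne', hm, hxm⟩; exact ⟨hm, hne', x, hxm, hxℓ⟩
    rw [e, card_biUnion, sum_congr rfl (g := fun _ => t), sum_const, hcard hℓ, smul_eq_mul]
    · intro y hy
      rw [card_erase_of_mem (mem_filter.2 ⟨hℓ, hpts.1 hy⟩), hthr, Nat.add_sub_cancel]
    · intro y hy y' hy' hne'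
      rw [Function.onFun, Finset.disjoint_left]
      intro m hm hm'
      simp only [mem_erase, mem_filter] at hm hm'
      exact hne' (hmeet ℓ (hmemL.1 hℓ) m (hmemL.1 hm.2.1) (Ne.symm hm.1) y (hpts.1 hy) y' (hpts.1 hy') hm.2.2 hm'.2.2)
  -- the number of points
  obtain ⟨ℓ₀, hℓ₀'⟩ := hne
  have hℓ₀ : ℓ₀ ∈ L := hmemL.2 hℓ₀'
  have hn : Fintype.card Ω = (s + 1) + (s + 1) * t * s := by
    have e : (univ : Finset Ω) = pts ℓ₀ ∪ (M ℓ₀).biUnion fun m => pts m \ pts ℓ₀ := by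
      ext x
      simp only [mem_univ, true_iff, mem_union, mem_biUnion, Finset.mem_sdiff, hpts]
      by_cases hx : x ∈ ℓ₀
      · exact Or.inl hx
      · obtain ⟨m, hm, hxm, hmeets⟩ := line hℓ₀ hx
        exact Or.inr ⟨m, mem_filter.2 ⟨hm, fun e => hx (e ▸ hxm), hmeets⟩, hxm, hx⟩
    rw [← Finset.card_univ, e, card_union_of_disjoint, card_biUnion, sum_congr rfl (g := fun _ => s), sum_const,
      hcard hℓ₀, hM hℓ₀, smul_eq_mul]
    · intro m hm
      obtain ⟨hmL, hne', y, hym, hyℓ⟩ := mem_filter.1 hm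
      have e1 : pts m \ pts ℓ₀ = (pts m).erase y := by
        ext x
        simp only [Finset.mem_sdiff, mem_erase, hpts]
        exact ⟨fun ⟨h1, h2⟩ => ⟨fun e => h2 (e ▸ hyℓ), h1⟩, fun ⟨h1, h2⟩ =>
          ⟨h2, fun h3 => h1 (hmeet m (hmemL.1 hmL) ℓ₀ hℓ₀' hne' x h2 y hym h3 hyℓ)⟩⟩
      rw [e1, card_erase_of_mem (hpts.2 hym), hcard hmL, Nat.add_sub_cancel]
    · intro m hm m' hm' hne'
      rw [Function.onFun, Finset.disjoint_left]
      intro x hx hx'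
      simp only [Finset.mem_sdiff, hpts] at hx hx'
      exact hne' (uniq hℓ₀ hx.2 (mem_filter.1 hm).1 (mem_filter.1 hm').1 hx.1 hx'.1 (mem_filter.1 hm).2.2
        (mem_filter.1 hm').2.2)
    · rw [Finset.disjoint_left]
      intro x hx hx'
      simp only [mem_biUnion, Finset.mem_sdiff] at hx'
      obtain ⟨m, -, -, h1⟩ := hx'
      exact h1 hx
  have hLcard : L.card * (s + 1) = Fintype.card Ω * (t + 1) := by
    have h1 := Finset.sum_card_bipartiteAbove_eq_sum_card_bipartiteBelow (s := L) (t := (univ : Finset Ω))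
      (r := fun ℓ x => x ∈ ℓ)
    rw [sum_congr rfl (g := fun _ => s + 1), sum_congr rfl (g := fun _ : Ω => t + 1), sum_const, sum_const,
      smul_eq_mul, smul_eq_mul, Finset.card_univ] at h1
    · exact h1
    · intro x _; exact hthr x
    · intro ℓ hℓ; exact hcard hℓ
  -- two skew lines
  obtain ⟨l, hl, m, hm, hskew⟩ : ∃ l ∈ L, ∃ m ∈ L, ¬ Meets m l := by
    obtain ⟨x, hx⟩ : ∃ x, x ∉ ℓ₀ := by
      by_contra hc
      push Not at hc
      have h1 : (pts ℓ₀) = univ := eq_univ_of_forall fun x => hpts.2 (hc x)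
      have h2 := hcard hℓ₀
      rw [h1, Finset.card_univ, hn] at h2
      have hs : 0 < s := by omega
      have : 0 < (s + 1) * t * s := by positivity
      omega
    obtain ⟨k, hk, k', hk', hkk⟩ := Finset.one_lt_card.1 (by rw [hthr x]; omega : 1 < (L.filter (x ∈ ·)).card)
    simp only [mem_filter] at hk hk'
    by_cases h1 : Meets k ℓ₀
    · exact ⟨ℓ₀, hℓ₀, k', hk'.1, fun h2 => hkk (uniq hℓ₀ hx hk.1 hk'.1 hk.2 hk'.2 h1 h2)⟩
    · exact ⟨ℓ₀, hℓ₀, k, hk.1, h1⟩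
  have hoff : ∀ {p}, p ∈ m → p ∉ l := fun {p} hp hp' => hskew ⟨p, hp, hp'⟩
  have hlm : l ≠ m := by
    rintro rfl
    obtain ⟨p, hp⟩ := Finset.card_pos.1 (show 0 < (pts l).card by rw [hcard hl]; omega)
    exact hoff (hpts.1 hp) (hpts.1 hp)
  -- the transversals
  set 𝒯 := L.filter fun T => Meets T l ∧ Meets T m with h𝒯
  have h𝒯mem : ∀ {T}, T ∈ 𝒯 → T ∈ L ∧ Meets T l ∧ Meets T m := fun hT => mem_filter.1 hT
  have h𝒯card : 𝒯.card = s + 1 := by
    rw [← hcard hm]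
    symm
    refine Finset.card_bij (fun p hp => (line hl (hoff (hpts.1 hp))).choose) (fun p hp => ?_)
      (fun p hp p' hp' e => ?_) (fun T hT => ?_)
    · obtain ⟨h1, h2, h3⟩ := (line hl (hoff (hpts.1 hp))).choose_spec
      exact mem_filter.2 ⟨h1, h3, p, h2, hpts.1 hp⟩
    · obtain ⟨h1, h2, h3⟩ := (line hl (hoff (hpts.1 hp))).choose_spec
      obtain ⟨h1', h2', h3'⟩ := (line hl (hoff (hpts.1 hp'))).choose_spec
      refine hmeet m (hmemL.1 hm) _ (hmemL.1 h1) (fun e1 => hskew ?_) p (hpts.1 hp) p' (hpts.1 hp') h2 (e ▸ h2')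
      rw [e1]; exact h3
    · obtain ⟨hTL, hTl, p, hpT, hpm⟩ := h𝒯mem hT
      obtain ⟨h1, h2, h3⟩ := (line hl (hoff hpm)).choose_spec
      exact ⟨p, hpts.2 hpm, uniq hl (hoff hpm) h1 hTL h2 hpT h3 hTl⟩
  set S := L.filter fun k => ¬ Meets k l ∧ ¬ Meets k m with hS
  have hScard : S.card + 2 + (s + 1) * t + (s + 1) * t = L.card + (s + 1) := by
    have h1 : L = S ∪ insert l (insert m (M l ∪ M m)) := by
      ext k
      simp only [hS, M, mem_union, mem_filter, mem_insert]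
      constructor
      · intro hk
        by_cases e1 : k = l
        · exact Or.inr (Or.inl e1)
        by_cases e2 : k = m
        · exact Or.inr (Or.inr (Or.inl e2))
        by_cases e3 : Meets k l
        · exact Or.inr (Or.inr (Or.inr (Or.inl ⟨hk, e1, e3⟩)))
        by_cases e4 : Meets k m
        · exact Or.inr (Or.inr (Or.inr (Or.inr ⟨hk, e2, e4⟩)))
        exact Or.inl ⟨hk, e3, e4⟩
      · rintro (⟨hk, -⟩ | rfl | rfl | ⟨hk, -⟩ | ⟨hk, -⟩)
        exacts [hk, hl, hm, hk, hk]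
    obtain ⟨pl, hpl⟩ := Finset.card_pos.1 (show 0 < (pts l).card by rw [hcard hl]; omega)
    obtain ⟨pm, hpm⟩ := Finset.card_pos.1 (show 0 < (pts m).card by rw [hcard hm]; omega)
    have hll : Meets l l := ⟨pl, hpts.1 hpl, hpts.1 hpl⟩
    have hmm : Meets m m := ⟨pm, hpts.1 hpm, hpts.1 hpm⟩
    have h2 : M l ∩ M m = 𝒯 := by
      ext k
      simp only [h𝒯, M, mem_inter, mem_filter]
      refine ⟨fun ⟨⟨hk, _, e1⟩, _, _, e2⟩ => ⟨hk, e1, e2⟩, fun ⟨hk, e1, e2⟩ => ⟨⟨hk, ?_, e1⟩, hk, ?_, e2⟩⟩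
      · rintro rfl; obtain ⟨p, hp, hp'⟩ := e2; exact hskew ⟨p, hp', hp⟩
      · rintro rfl; exact hskew e1
    have hd : Disjoint S (insert l (insert m (M l ∪ M m))) := by
      rw [Finset.disjoint_left]
      intro k hk hk'
      simp only [hS, mem_filter] at hk
      simp only [M, mem_union, mem_filter, mem_insert] at hk'
      rcases hk' with rfl | rfl | ⟨-, -, e⟩ | ⟨-, -, e⟩
      exacts [hk.2.1 hll, hk.2.2 hmm, hk.2.1 e, hk.2.2 e]
    have hml : m ∉ M l ∪ M m := by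
      simp only [M, mem_union, mem_filter]
      rintro (⟨-, -, e⟩ | ⟨-, e, -⟩)
      exacts [hskew e, e rfl]
    have hli : l ∉ insert m (M l ∪ M m) := by
      simp only [M, mem_insert, mem_union, mem_filter]
      rintro (e | ⟨-, e, -⟩ | ⟨-, -, p, e, e'⟩)
      exacts [hlm e, e rfl, hskew ⟨p, e', e⟩]
    have h3 := card_union_add_card_inter (M l) (M m)
    rw [h2, h𝒯card, hM hl, hM hm] at h3
    rw [h1, card_union_of_disjoint hd, card_insert_of_notMem hli, card_insert_of_notMem hml]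
    omega
  -- points of a transversal off `l` and `m`
  have hP : ∀ {T}, T ∈ 𝒯 → ((pts T).filter fun p => p ∉ l ∧ p ∉ m).card + 2 = s + 1 := by
    intro T hT
    obtain ⟨hTL, ⟨pl, hplT, hpll⟩, ⟨pm, hpmT, hpmm⟩⟩ := h𝒯mem hT
    have hTl : T ≠ l := by rintro rfl; exact hskew ⟨pm, hpmm, hpmT⟩
    have hTm : T ≠ m := by rintro rfl; exact hskew ⟨pl, hplT, hpll⟩
    have hne' : pl ≠ pm := fun e => hskew ⟨pl, e ▸ hpmm, hpll⟩
    have e : (pts T).filter (fun p => p ∉ l ∧ p ∉ m) = ((pts T).erase pl).erase pm := by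
      ext p
      simp only [mem_filter, mem_erase, hpts]
      constructor
      · rintro ⟨h1, h2, h3⟩; exact ⟨fun e => h3 (e ▸ hpmm), fun e => h2 (e ▸ hpll), h1⟩
      · rintro ⟨h1, h2, h3⟩
        exact ⟨h3, fun e => h2 (hmeet T (hmemL.1 hTL) l (hmemL.1 hl) hTl p h3 pl hplT e hpll),
          fun e => h1 (hmeet T (hmemL.1 hTL) m (hmemL.1 hm) hTm p h3 pm hpmT e hpmm)⟩
    rw [e, card_erase_of_mem (mem_erase.2 ⟨Ne.symm hne', hpts.2 hpmT⟩), card_erase_of_mem (hpts.2 hplT), hcard hTL]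
    omega
  have hskewT : ∀ {T k p}, T ∈ 𝒯 → k ∈ L → k ≠ T → p ∈ T → p ∈ k → p ∉ l → p ∉ m → k ∈ S := by
    intro T k p hT hk hne' hpT hpk hpl hpm
    obtain ⟨hTL, hTl, hTm⟩ := h𝒯mem hT
    exact mem_filter.2 ⟨hk, fun e => hne' (uniq hl hpl hk hTL hpk hpT e hTl),
      fun e => hne' (uniq hm hpm hk hTL hpk hpT e hTm)⟩
  have hA : ∀ T ∈ 𝒯, (S.filter fun k => Meets k T).card = (s - 1) * t := by
    intro T hT
    have hTL := (h𝒯mem hT).1
    have e : S.filter (fun k => Meets k T) =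
        ((pts T).filter fun p => p ∉ l ∧ p ∉ m).biUnion fun p => (L.filter (p ∈ ·)).erase T := by
      ext k
      simp only [mem_filter, mem_biUnion, mem_erase, hpts]
      constructor
      · rintro ⟨hk, p, hpk, hpT⟩
        obtain ⟨hkL, hkl, hkm⟩ := mem_filter.1 hk
        exact ⟨p, ⟨hpT, fun e => hkl ⟨p, hpk, e⟩, fun e => hkm ⟨p, hpk, e⟩⟩,
          fun e => hkl (e ▸ (h𝒯mem hT).2.1), hkL, hpk⟩
      · rintro ⟨p, ⟨hpT, hpl, hpm⟩, hne', hkL, hpk⟩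
        exact ⟨hskewT hT hkL hne' hpT hpk hpl hpm, p, hpk, hpT⟩
    rw [e, card_biUnion, sum_congr rfl (g := fun _ => t), sum_const, smul_eq_mul]
    · have := hP hT
      congr 1
      omega
    · intro p hp
      rw [card_erase_of_mem (mem_filter.2 ⟨hTL, hpts.1 (mem_filter.1 hp).1⟩), hthr, Nat.add_sub_cancel]
    · intro p hp p' hp' hne'
      rw [Function.onFun, Finset.disjoint_left]
      intro k hk hk'
      simp only [mem_erase, mem_filter] at hk hk'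
      exact hne' (hmeet T (hmemL.1 hTL) k (hmemL.1 hk.2.1) (Ne.symm hk.1) p (hpts.1 (mem_filter.1 hp).1) p'
        (hpts.1 (mem_filter.1 hp').1) hk.2.2 hk'.2.2)
  have hB : ∀ T ∈ 𝒯, ∀ T' ∈ 𝒯, T ≠ T' → (S.filter fun k => Meets k T ∧ Meets k T').card = s - 1 := by
    intro T hT T' hT' hne'
    obtain ⟨hTL, hTl, hTm⟩ := h𝒯mem hT
    obtain ⟨hTL', hTl', hTm'⟩ := h𝒯mem hT'
    have hdis : ¬ Meets T T' := by
      rintro ⟨p, hp, hp'⟩
      by_cases hpl : p ∈ l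
      · exact hne' (uniq hm (fun e => hoff e hpl) hTL hTL' hp hp' hTm hTm')
      · exact hne' (uniq hl hpl hTL hTL' hp hp' hTl hTl')
    have hoff' : ∀ {p}, p ∈ T → p ∉ T' := fun {p} h1 h2 => hdis ⟨p, h1, h2⟩
    have hcard' := hP hT
    rw [show s - 1 = ((pts T).filter fun p => p ∉ l ∧ p ∉ m).card by omega]
    symm
    refine Finset.card_bij (fun p hp => (line hTL' (hoff' (hpts.1 (mem_filter.1 hp).1))).choose)
      (fun p hp => ?_) (fun p hp p' hp' e => ?_) (fun k hk => ?_)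
    · obtain ⟨hpT, hpl, hpm⟩ := mem_filter.1 hp
      obtain ⟨h1, h2, h3⟩ := (line hTL' (hoff' (hpts.1 hpT))).choose_spec
      have hne'' : (line hTL' (hoff' (hpts.1 hpT))).choose ≠ T := fun e => hdis (e ▸ h3)
      exact mem_filter.2 ⟨hskewT hT h1 hne'' (hpts.1 hpT) h2 hpl hpm, ⟨p, h2, hpts.1 hpT⟩, h3⟩
    · have hpT := hpts.1 (mem_filter.1 hp).1
      have hpT' := hpts.1 (mem_filter.1 hp').1
      obtain ⟨h1, h2, h3⟩ := (line hTL' (hoff' hpT)).choose_spec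
      obtain ⟨-, h2', -⟩ := (line hTL' (hoff' hpT')).choose_spec
      exact hmeet T (hmemL.1 hTL) _ (hmemL.1 h1) (fun e1 => hdis (e1.symm ▸ h3)) p hpT p' hpT' h2 (e ▸ h2')
    · obtain ⟨hkS, ⟨p, hpk, hpT⟩, hkT'⟩ := mem_filter.1 hk
      obtain ⟨hkL, hkl, hkm⟩ := mem_filter.1 hkS
      refine ⟨p, mem_filter.2 ⟨hpts.2 hpT, fun e => hkl ⟨p, hpk, e⟩, fun e => hkm ⟨p, hpk, e⟩⟩, ?_⟩
      obtain ⟨h1, h2, h3⟩ := (line hTL' (hoff' hpT)).choose_spec
      exact uniq hTL' (hoff' hpT) h1 hkL h2 hpk h3 hkT'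
  -- the variance
  let x : Set Ω → ℕ := fun k => (𝒯.filter fun T => Meets k T).card
  have hsum : ∑ k ∈ S, x k = (s + 1) * ((s - 1) * t) := by
    calc ∑ k ∈ S, x k = ∑ k ∈ S, ∑ T ∈ 𝒯, (if Meets k T then 1 else 0) :=
          sum_congr rfl fun k _ => card_filter _ _
      _ = ∑ T ∈ 𝒯, ∑ k ∈ S, (if Meets k T then 1 else 0) := sum_comm
      _ = ∑ T ∈ 𝒯, (s - 1) * t := sum_congr rfl fun T hT => by rw [← card_filter, hA T hT]
      _ = _ := by rw [sum_const, h𝒯card, smul_eq_mul]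
  have hsq : ∑ k ∈ S, x k ^ 2 = (s + 1) * ((s - 1) * t + s * (s - 1)) := by
    calc ∑ k ∈ S, x k ^ 2
          = ∑ k ∈ S, ∑ T ∈ 𝒯, ∑ T' ∈ 𝒯, (if Meets k T ∧ Meets k T' then 1 else 0) :=
          sum_congr rfl fun k _ => by
            simp only [x, pow_two, card_filter, sum_mul_sum, ite_zero_mul_ite_zero, mul_one]
      _ = ∑ T ∈ 𝒯, ∑ k ∈ S, ∑ T' ∈ 𝒯, (if Meets k T ∧ Meets k T' then 1 else 0) := sum_comm
      _ = ∑ T ∈ 𝒯, ∑ T' ∈ 𝒯, ∑ k ∈ S, (if Meets k T ∧ Meets k T' then 1 else 0) :=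
          sum_congr rfl fun T _ => sum_comm
      _ = ∑ T ∈ 𝒯, ((s - 1) * t + s * (s - 1)) := sum_congr rfl fun T hT => by
            rw [← Finset.add_sum_erase _ _ hT, sum_congr rfl (s₁ := 𝒯.erase T) (g := fun _ => s - 1)
              fun T' hT' => by rw [← card_filter, hB T hT T' (mem_erase.1 hT').2 (Ne.symm (mem_erase.1 hT').1)],
              sum_const, card_erase_of_mem hT, h𝒯card, Nat.add_sub_cancel, smul_eq_mul, ← card_filter]
            simp only [and_self]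
            rw [hA T hT]
      _ = _ := by rw [sum_const, h𝒯card, smul_eq_mul]
  have hCS := sq_sum_le_card_mul_sum_sq (s := S) (f := x)
  rw [hsum, hsq] at hCS
  have hL' : L.card = (1 + t * s) * (t + 1) := by
    rw [hn, show s + 1 + (s + 1) * t * s = (1 + t * s) * (s + 1) by ring, mul_assoc, mul_comm (s + 1),
      ← mul_assoc] at hLcard
    exact Nat.eq_of_mul_eq_mul_right (by omega) hLcard
  rw [hL'] at hScard
  obtain ⟨σ, rfl⟩ : ∃ σ, s = σ + 1 := ⟨s - 1, by omega⟩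
  simp only [Nat.add_sub_cancel] at hCS
  zify at hCS hScard hst
  have hS' : (S.card : ℤ) = (σ + 1) * t ^ 2 - (σ + 1) * t - t + (σ + 1) := by linarith
  rw [hS'] at hCS
  have hpos : (0 : ℤ) < ((σ : ℤ) + 2) * σ := by
    have : 0 < σ := by nlinarith
    positivity
  have key : ((σ : ℤ) + 2) * σ * (((σ : ℤ) + 2) * σ * t ^ 2) ≤
      ((σ : ℤ) + 2) * σ * (((σ + 1) * t ^ 2 - (σ + 1) * t - t + (σ + 1)) * (t + (σ + 1))) := by linarith
  have key' := le_of_mul_le_mul_left key hpos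
  have h1 : (0 : ℤ) < ((σ : ℤ) + 1) * ((t : ℤ) - 1) * ((σ : ℤ) + 1 - t * t) := by
    refine mul_pos (mul_pos (by positivity) ?_) (by linarith)
    have : (2 : ℤ) ≤ t := by exact_mod_cast ht
    linarith
  linarith

end CfsgLib.AschCrit
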