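import Cfsg.Agent.Lib.Invol.AschCrit.Pairing.Isolated
import Cfsg.Agent.Lib.Invol.AschCrit.Pairing.GQ

/-!
Owner: helper16. Aschbacher's criterion: `NoPairing`.

* `Crit.noPairing`: the translates of `Fix u` form a generalized quadrangle of order `(q ^ 2, q - 1)`, against
  Higman's inequality.
-/

set_option autoImplicit false
set_option linter.unusedSectionVars false
set_option linter.style.haveILetI false

namespace CfsgLib.AschCrit

open Subgroup MulAction

universe u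

variable {G : Type u} [Group G] {Ω : Type u} [MulAction G Ω]

namespace Pairing

/-- The translate of `Fix v` by `g`. -/
def line (Ω : Type u) [MulAction G Ω] (v g : G) : Set Ω := {x | v • (g⁻¹ • x) = g⁻¹ • x}

theorem mem_line {v g : G} {x : Ω} : x ∈ line Ω v g ↔ v • (g⁻¹ • x) = g⁻¹ • x := Iff.rfl

theorem conj_smul_iff {g r : G} {x : Ω} : (g * r * g⁻¹) • x = x ↔ r • (g⁻¹ • x) = g⁻¹ • x := by
  rw [mul_smul, mul_smul]
  exact ⟨fun e => smul_left_cancel g (e.trans (smul_inv_smul g x).symm), fun e => by rw [e, smul_inv_smul]⟩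

theorem mem_line_conj {v g : G} {x : Ω} : x ∈ line Ω v g ↔ (g * v * g⁻¹) • x = x :=
  conj_smul_iff.symm

theorem smul_mem_line {v g g' : G} {x : Ω} : g' • x ∈ line Ω v (g' * g) ↔ x ∈ line Ω v g := by
  rw [mem_line, mem_line, mul_inv_rev, mul_smul, inv_smul_smul]

namespace Ctx

variable [Finite G] {D : Set G} {v : G} {a b : Ω} {E : Subgroup G} {q : ℕ} {Q P R : Subgroup G}
  (C : Ctx D v a b E q Q P R)
include C

theorem line_through {g : G} (hg : a ∈ line Ω v g) : ∃ e ∈ E, line Ω v g = {x | (v * e) • x = x} := by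
  have hl := C.ldata
  set w := g * v * g⁻¹ with hw
  have hww : w * w = 1 := by
    rw [hw, show g * v * g⁻¹ * (g * v * g⁻¹) = g * (v * v) * g⁻¹ by group, C.R_sq C.data.u_mem]; group
  have hwE : ∀ e ∈ E, Commute w e := fun e he => by
    rcases eq_or_ne e 1 with h1 | h1
    · rw [h1]; exact Commute.one_right _
    have h2 := C.mem_commute (C.crit.conjBack (hl.mem e he h1).1 g) hg (by
      rw [mul_smul, mul_smul, smul_inv_smul, (hl.mem e he h1).2.1])
    have h3 := (Commute.conj_iff g).2 h2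
    rw [show g * (g⁻¹ * e * g) * g⁻¹ = e by group] at h3
    exact h3.symm
  obtain ⟨r, hr, f, hf, hrr, hwrf⟩ := C.invol_P (C.cent_E hwE) hww
  have hr1 : r ≠ 1 := by
    rintro rfl
    rw [one_mul] at hwrf
    rcases eq_or_ne f 1 with h1 | h1
    · have h2 : v = 1 := conj_eq_one_iff.1 (hwrf.trans h1)
      have := C.top.multi.1
      rw [h2, orderOf_one] at this
      omega
    · refine C.crit.multi_not_mem C.top.multi ?_
      have h3 := C.crit.conjBack (hwrf ▸ (hl.mem f hf h1).1 : w ∈ D) g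
      rwa [hw, show g⁻¹ * (g * v * g⁻¹) * g = v by group] at h3
  have hr2 := C.order_R hr hr1
  obtain ⟨x, hx, hxr⟩ := C.shift_surj hr hr2 hf
  obtain ⟨e, he, hxe⟩ := C.P_shift hx
  refine ⟨e, he, Set.ext fun p => ?_⟩
  show p ∈ line Ω v g ↔ (v * e) • p = p
  rw [mem_line_conj, ← hw, hwrf, ← hxr, ← hxe, conj_smul_iff, conj_smul_iff]
  exact (C.invol_R hr hr2).2 _

theorem translate_meet {e e' : G} (he : e ∈ E) (he' : e' ∈ E) {p : Ω} (hp : (v * e) • p = p)
    (hp' : (v * e') • p = p) (hpa : p ≠ a) : e = e' := by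
  by_contra hne
  have hm := mul_mem (inv_mem he') he
  have h1 : e'⁻¹ * e ≠ 1 := fun e1 => hne (inv_mul_eq_one.1 e1).symm
  refine hpa (C.crit.fix_unique _ (C.ldata.mem _ hm h1).1 p a ?_ (C.ldata.mem _ hm h1).2.1)
  rw [mul_smul, inv_smul_eq_iff]
  rw [mul_smul] at hp hp'
  exact smul_left_cancel v (hp.trans hp'.symm)

theorem false_of_ctx : False := by
  classical
  haveI := C.crit.finite_points
  have hl := C.ldata
  have hq := Crit.four_le_q hl
  have hvv : v * v = 1 := C.R_sq C.data.u_mem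
  have hsize : ∀ g : G, (line Ω v g).ncard = q ^ 2 + 1 := fun g => by
    rw [← hl.card_fix, ← Nat.card_coe_set_eq]
    exact Nat.card_congr
      { toFun := fun x => ⟨g⁻¹ • x.1, x.2⟩
        invFun := fun x => ⟨g • x.1, by rw [mem_line, inv_smul_smul]; exact x.2⟩
        left_inv := fun x => Subtype.ext (smul_inv_smul _ _)
        right_inv := fun x => Subtype.ext (inv_smul_smul _ _) }
  have htrans : ∀ e ∈ E, ∃ g : G, g • a = a ∧ line Ω v g = {x | (v * e) • x = x} := fun e he => by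
    obtain ⟨g, hga, -, hg⟩ := C.trans e he
    exact ⟨g, hga, Set.ext fun x => by rw [mem_line_conj, hg]; rfl⟩
  have hkey : ∀ g : G, ∀ x y : Ω, x ≠ y → x ∈ line Ω v g → y ∈ line Ω v g → ∀ g' : G, x ∈ line Ω v g' →
      y ∈ line Ω v g' → line Ω v g = line Ω v g' := by
    intro g x y hxy hx hy g' hx' hy'
    obtain ⟨k, rfl⟩ := C.crit.trans a x
    obtain ⟨e, he, h1⟩ := C.line_through (g := k⁻¹ * g) (by rw [← smul_mem_line (g' := k), mul_inv_cancel_left]; exact hx)
    obtain ⟨e', he', h1'⟩ := C.line_through (g := k⁻¹ * g') (by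
      rw [← smul_mem_line (g' := k), mul_inv_cancel_left]; exact hx')
    have hm : ∀ {g₀ : G} {e₀ : G}, line Ω v (k⁻¹ * g₀) = {x | (v * e₀) • x = x} → y ∈ line Ω v g₀ →
        (v * e₀) • (k⁻¹ • y) = k⁻¹ • y := fun {g₀ e₀} h hy0 =>
      (Set.ext_iff.1 h _).1 ((smul_mem_line (g' := k⁻¹) (g := g₀)).2 hy0)
    obtain rfl : e = e' := C.translate_meet he he' (hm h1 hy) (hm h1' hy')
      fun e1 => hxy (by rw [← e1, smul_inv_smul])
    ext z
    rw [← smul_mem_line (g' := k⁻¹) (g := g), ← smul_mem_line (g' := k⁻¹) (g := g'), h1, h1']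
  refine gq_false (Set.range (line Ω v)) (q ^ 2) (q - 1) (by omega) ?_ ⟨_, 1, rfl⟩
    (by rintro _ ⟨g, rfl⟩; exact hsize g) (fun x => ?_)
    (by rintro _ ⟨g, rfl⟩ _ ⟨g', rfl⟩ hne x hx y hy hx' hy'
        by_contra hxy
        exact hne (hkey g x y hxy hx hy g' hx' hy')) ?_
  · obtain ⟨s, rfl⟩ : ∃ s, q = s + 1 := ⟨q - 1, by omega⟩
    rw [Nat.add_sub_cancel]
    nlinarith
  · -- the lines at a point
    obtain ⟨k, rfl⟩ := C.crit.trans a x
    rw [show q - 1 + 1 = q by omega]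
    conv_rhs => rw [← hl.card_E]
    rw [← Nat.card_coe_set_eq]
    choose g hga hg using fun e : E => htrans e e.2
    refine (Nat.card_congr (Equiv.ofBijective (fun e : E => (⟨line Ω v (k * g e), ⟨_, rfl⟩, ?_⟩ :
      {ℓ : Set Ω | ℓ ∈ Set.range (line Ω v) ∧ k • a ∈ ℓ})) ⟨fun e e' he => ?_, fun ℓ => ?_⟩)).symm
    · rw [smul_mem_line, hg]
      show (v * (e : G)) • a = a
      rw [mul_smul, C.crit.fix_of_mem_E hl e.2, hl.fix_a]
    · obtain ⟨p, hp, hpa⟩ := C.crit.line_exists hl C.trans e.2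
      have h1 : k • p ∈ line Ω v (k * g e) := by rw [smul_mem_line, hg]; exact hp
      rw [show line Ω v (k * g e) = line Ω v (k * g e') from congrArg Subtype.val he, smul_mem_line, hg] at h1
      exact Subtype.ext (C.translate_meet e.2 e'.2 hp h1 hpa)
    · obtain ⟨_, ⟨g', rfl⟩, ha⟩ := ℓ
      obtain ⟨e, he, h1⟩ := C.line_through (g := k⁻¹ * g') (by
        rw [← smul_mem_line (g' := k), mul_inv_cancel_left]; exact ha)
      refine ⟨⟨e, he⟩, Subtype.ext (Set.ext fun z => ?_)⟩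
      show z ∈ line Ω v (k * g ⟨e, he⟩) ↔ z ∈ line Ω v g'
      rw [← smul_mem_line (g' := k⁻¹) (g := k * g ⟨e, he⟩), inv_mul_cancel_left, hg,
        ← smul_mem_line (g' := k⁻¹) (g := g'), h1]
  · -- the axiom
    rintro _ ⟨g, rfl⟩ x hx
    have hone : ∀ {z : Ω}, z ∈ line Ω v 1 ↔ v • z = z := fun {z} => by rw [mem_line, inv_one, one_smul]
    set x₀ := g⁻¹ • x with hx₀
    have hx₀v : v • x₀ ≠ x₀ := hx
    obtain ⟨e, he, he1, p, hp, hpa, hvp⟩ := C.exists_line_point
    obtain ⟨l, hlc, hlp⟩ := C.reg.trans p x₀ hvp hx₀v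
    obtain ⟨g₁, hg₁a, hg₁⟩ := htrans e he
    have hla : v • (l • a) = l • a := by
      rw [← mul_smul, ← (commute_of_mem_cGrp hlc).eq, mul_smul, hl.fix_a]
    refine ⟨g • (l • a), ⟨?_, _, ⟨g * (l * g₁), rfl⟩, ?_, ?_⟩, ?_⟩
    · rw [mem_line, inv_smul_smul]; exact hla
    · rw [show x = g • (l • p) by rw [hlp, hx₀, smul_inv_smul], smul_mem_line, smul_mem_line, hg₁]
      exact hp
    · rw [smul_mem_line, smul_mem_line, hg₁]
      show (v * e) • a = a
      rw [mul_smul, C.crit.fix_of_mem_E hl he, hl.fix_a]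
    rintro y ⟨hy, _, ⟨g', rfl⟩, hxm, hym⟩
    -- the point of a line through `x` meeting the line
    have key : ∀ {y : Ω} {g' : G}, y ∈ line Ω v g → x ∈ line Ω v g' → y ∈ line Ω v g' →
        ∃ d ∈ cGrp D v, d ∈ D ∧ d • (g⁻¹ • y) = g⁻¹ • y ∧ d • x₀ = v • x₀ := by
      intro y g' hy hxm hym
      obtain ⟨k, hkc, hka⟩ := C.exists_moving hy
      have hym' : a ∈ line Ω v ((g * k)⁻¹ * g') := by
        rw [← smul_mem_line (g' := g * k), mul_inv_cancel_left, mul_smul, hka, smul_inv_smul]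
        exact hym
      obtain ⟨e', he', h1⟩ := C.line_through hym'
      have hxe : (v * e') • ((g * k)⁻¹ • x) = (g * k)⁻¹ • x :=
        (Set.ext_iff.1 h1 _).1 ((smul_mem_line (g' := (g * k)⁻¹) (g := g')).2 hxm)
      rw [mul_inv_rev, mul_smul k⁻¹, ← hx₀] at hxe
      have he'1 : e' ≠ 1 := fun e1 => hx₀v (by
        rw [e1, mul_one, ← mul_smul, ← (commute_of_mem_cGrp (inv_mem hkc)).eq, mul_smul] at hxe
        exact smul_left_cancel _ hxe)
      refine ⟨k * e' * k⁻¹, mul_mem (mul_mem hkc (C.ker.le (C.ker.E_le he'))) (inv_mem hkc),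
        C.crit.conj _ (hl.mem e' he' he'1).1 k, ?_, ?_⟩
      · rw [← hka, mul_smul, mul_smul, inv_smul_smul, C.crit.fix_of_mem_E hl he']
      · have h2 : (v * e') • (k⁻¹ • x₀) = k⁻¹ • x₀ := hxe
        rw [mul_smul, ← eq_inv_smul_iff, inv_eq_of_mul_eq_one_right hvv] at h2
        rw [mul_smul, mul_smul, h2, ← mul_smul v, ← (commute_of_mem_cGrp (inv_mem hkc)).eq, mul_smul, smul_inv_smul]
    obtain ⟨d, hdc, hdD, hdy, hdx⟩ := key hy hxm hym
    obtain ⟨d₀, hd₀c, hd₀D, hd₀y, hd₀x⟩ := key (y := g • (l • a)) (g' := g * (l * g₁))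
      (by rw [mem_line, inv_smul_smul]; exact hla)
      (by rw [show x = g • (l • p) by rw [hlp, hx₀, smul_inv_smul], smul_mem_line, smul_mem_line, hg₁]; exact hp)
      (by
        rw [smul_mem_line, smul_mem_line, hg₁]
        show (v * e) • a = a
        rw [mul_smul, C.crit.fix_of_mem_E hl he, hl.fix_a])
    have hdd : d = d₀ := (inv_mul_eq_one.1 (C.reg.free _ (mul_mem (inv_mem hd₀c) hdc) x₀ hx₀v
      (by rw [mul_smul, hdx, ← hd₀x, inv_smul_smul]))).symm
    rw [← hdd] at hd₀y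
    exact smul_left_cancel g⁻¹ (C.crit.fix_unique d hdD _ _ hdy hd₀y)

end Ctx

end Pairing

namespace Crit

variable [Finite G] {D : Set G} (h : Crit Ω D)
include h

/-- No exceptional pairing in Suzuki type. -/
theorem noPairing (hf : Faithful G Ω) (IH : Below.{u, u} (Nat.card G)) : NoPairing Ω D := by
  intro v a b E q P₀ hF htr hP₀ hsub hmax h4 hinv
  obtain ⟨Q, hQ⟩ := h.exists_szKer hf IH hF.multi hF.data
  obtain ⟨P, R, hP⟩ := h.exists_pData hf IH hF.toTopFrame htr hQ hP₀ hsub hmax h4 hinv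
  obtain ⟨w, hw, hw2, hwv⟩ := hP.exists_second h hF.toTopFrame hQ
  obtain ⟨hreg, hcard⟩ := h.regular hf IH hF.toTopFrame htr hQ (hP.R_fix hw) hw2 hwv
  exact Pairing.Ctx.false_of_ctx ⟨h, hf, IH, hF, htr, hQ, hP, hreg, hcard⟩

end Crit

end CfsgLib.AschCrit
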