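import Cfsg.Agent.Lib.Invol.AschCrit.Pairing.Suzuki
import Cfsg.Agent.Lib.Invol.AschCrit.OrbitProof
import Cfsg.Agent.Lib.Invol.AschCrit.CentKernel

/-!
Owner: helper16. Aschbacher's criterion, `NoPairing`: the kernel on the fixed points and the translates of
`Fix u`.

* `fixKer`: the elements fixing all fixed points of `u` that centralise `u` and `E`.
* `Crit.fix_eq_of_mem`: its involutions have the fixed points of `u`.
* `Crit.line_trans`, `Crit.line_free`: `Q` is regular on `Fix (u e)` without `a`.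
* `Crit.fixKer_comm_line`: `fixKer` commutes with `Q` there.
-/

set_option autoImplicit false
set_option linter.unusedSectionVars false
set_option linter.style.haveILetI false

namespace CfsgLib.AschCrit

open Subgroup MulAction

universe u

variable {G : Type u} [Group G] {Ω : Type u} [MulAction G Ω]

/-- The elements fixing every fixed point of `u` that centralise `u` and `E`. -/
def fixKer (Ω : Type u) [MulAction G Ω] (u : G) (E : Subgroup G) : Subgroup G :=
  fixingSubgroup G {x : Ω | u • x = x} ⊓ Subgroup.centralizer (insert u (E : Set G))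

theorem mem_fixKer {u g : G} {E : Subgroup G} :
    g ∈ fixKer Ω u E ↔ (∀ x : Ω, u • x = x → g • x = x) ∧ Commute g u ∧ ∀ e ∈ E, Commute g e := by
  simp only [fixKer, Subgroup.mem_inf, mem_fixingSubgroup_iff, Set.mem_setOf_eq, Subgroup.mem_centralizer_iff,
    Set.forall_mem_insert, SetLike.mem_coe, Commute, SemiconjBy]
  exact and_congr_right fun _ => ⟨fun h => ⟨h.1.symm, fun e he => (h.2 e he).symm⟩,
    fun h => ⟨h.1.symm, fun e he => (h.2 e he).symm⟩⟩

theorem mem_fixGrp_iff {u g : G} {a b : Ω} {E : Subgroup G} :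
    g ∈ fixGrp u a b E ↔ g • a = a ∧ g • b = b ∧ Commute g u ∧ ∀ e ∈ E, Commute g e := by
  simp only [fixGrp, Subgroup.mem_inf, Subgroup.mem_centralizer_iff, MulAction.mem_stabilizer_iff,
    Set.forall_mem_insert, SetLike.mem_coe, Commute, SemiconjBy]
  exact ⟨fun ⟨⟨h1, h2⟩, h3, h4⟩ => ⟨h1, h2, h3.symm, fun e he => (h4 e he).symm⟩,
    fun ⟨h1, h2, h3, h4⟩ => ⟨⟨h1, h2⟩, h3.symm, fun e he => (h4 e he).symm⟩⟩

theorem fixKer_le_fixGrp {u : G} {a b : Ω} {E : Subgroup G} (ha : u • a = a) (hb : u • b = b) :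
    fixKer Ω u E ≤ fixGrp u a b E := fun g hg => by
  obtain ⟨h1, h2, h3⟩ := mem_fixKer.1 hg
  exact mem_fixGrp_iff.2 ⟨h1 a ha, h1 b hb, h2, h3⟩

/-- An odd group with three fixed-point-free involutory conjugations forming a four group is trivial. -/
theorem eq_bot_of_three {X : Type*} [Group X] [Finite X] {H : Subgroup X} {i j : X} (hi : i * i = 1)
    (hj : j * j = 1) (hij : i * j = j * i) (hiH : ∀ x ∈ H, i * x * i⁻¹ ∈ H) (hjH : ∀ x ∈ H, j * x * j⁻¹ ∈ H)
    (fi : ∀ x ∈ H, i * x * i⁻¹ = x → x = 1) (fj : ∀ x ∈ H, j * x * j⁻¹ = x → x = 1)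
    (fij : ∀ x ∈ H, i * j * x * (i * j)⁻¹ = x → x = 1) : H = ⊥ := by
  classical
  have key : ∀ k : X, k * k = 1 → (∀ x ∈ H, k * x * k⁻¹ ∈ H) → (∀ x ∈ H, k * x * k⁻¹ = x → x = 1) →
      ∀ x ∈ H, k * x * k⁻¹ = x⁻¹ := by
    intro k hk hkH fk x hx
    let φ : H →* H := MonoidHom.mk' (fun y => ⟨k * y * k⁻¹, hkH _ y.2⟩)
      fun y z => Subtype.ext (by show k * ((y : X) * z) * k⁻¹ = k * y * k⁻¹ * (k * z * k⁻¹); group)
    have hfp : MonoidHom.FixedPointFree φ := fun y hy => Subtype.ext (fk y y.2 (congrArg Subtype.val hy))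
    have hinv : Function.Involutive φ := fun y => Subtype.ext (by
      show k * (k * (y : X) * k⁻¹) * k⁻¹ = y
      rw [show k * (k * (y : X) * k⁻¹) * k⁻¹ = k * k * y * (k * k)⁻¹ by group, hk]; group)
    exact congrArg Subtype.val (congrFun (hfp.coe_eq_inv_of_involutive hinv) ⟨x, hx⟩)
  rw [Subgroup.eq_bot_iff_forall]
  intro x hx
  refine fij x hx ?_
  have h1 := key i hi hiH fi _ (inv_mem hx)
  have h2 := key j hj hjH fj x hx
  calc i * j * x * (i * j)⁻¹ = i * (j * x * j⁻¹) * i⁻¹ := by group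
    _ = x := by rw [h2, h1, inv_inv]

theorem exists_sq_involution [Finite G] {x : G} (hx : x ≠ 1) {n : ℕ} (h : x ^ 2 ^ n = 1) :
    ∃ m : ℕ, orderOf (x ^ 2 ^ m) = 2 := by
  obtain ⟨k, -, hk⟩ := (Nat.dvd_prime_pow Nat.prime_two).1 (orderOf_dvd_of_pow_eq_one h)
  obtain ⟨m, rfl⟩ : ∃ m, k = m + 1 := ⟨k - 1, by
    rcases k with _ | k
    · exact absurd (orderOf_eq_one_iff.1 (by simpa using hk)) hx
    · omega⟩
  refine ⟨m, ?_⟩
  rw [orderOf_pow_of_dvd (by positivity) (hk ▸ pow_dvd_pow 2 (by omega)), hk, pow_succ, Nat.mul_div_cancel_left]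
  positivity

namespace Crit

variable [Finite G] {D : Set G} (h : Crit Ω D)
include h

theorem fix_of_mem_E {u : G} {a b : Ω} {E : Subgroup G} {q i : ℕ} (hl : LData D u a b E q i) {e : G} (he : e ∈ E) :
    e • a = a := by
  rcases eq_or_ne e 1 with h1 | h1
  · rw [h1, one_smul]
  · exact (hl.mem e he h1).2.1

theorem sq_E {u : G} {a b : Ω} {E : Subgroup G} {q i : ℕ} (hl : LData D u a b E q i) {e : G} (he : e ∈ E) :
    e * e = 1 := by
  rcases eq_or_ne e 1 with h1 | h1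
  · rw [h1, one_mul]
  · exact h.sq (hl.mem e he h1).1

/-- The two-elements of `fixGrp` fix every fixed point. -/
theorem mem_fixKer_of_two (hf : Faithful G Ω) (IH : Below.{u, u} (Nat.card G)) {v : G} {a b : Ω} {E : Subgroup G}
    {q : ℕ} (ht : TopFrame D v a b E q 2) {g : G} (hg : g ∈ fixGrp v a b E) {n : ℕ} (hn : g ^ 2 ^ n = 1) :
    g ∈ fixKer Ω v E := by
  obtain ⟨-, -, hgv, hgE⟩ := mem_fixGrp_iff.1 hg
  rcases h.kernelFix hf IH v a b E q 2 ht g hg ⟨n, hn⟩ with h1 | h1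
  · exact mem_fixKer.2 ⟨h1, hgv, hgE⟩
  · exact absurd h1.1 (by norm_num)

/-- An involution fixing all fixed points of `u` has no others. -/
theorem fix_eq_of_mem (hf : Faithful G Ω) (IH : Below.{u, u} (Nat.card G)) {v : G} {a b : Ω} {E : Subgroup G}
    {q : ℕ} (ht : TopFrame D v a b E q 2) {w : G} (hw : w ∈ fixKer Ω v E) (hw2 : orderOf w = 2) :
    IsMulti Ω w ∧ ∀ x : Ω, w • x = x ↔ v • x = x := by
  classical
  haveI := h.finite_points
  have hl := ht.data
  obtain ⟨hwF, hwv, hwE⟩ := mem_fixKer.1 hw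
  have hwa := hwF a hl.fix_a
  have hwb := hwF b hl.fix_b
  have hwm : IsMulti Ω w := ⟨hw2, a, b, hl.ne, hwa, hwb⟩
  refine ⟨hwm, ?_⟩
  have hld := h.localDichotomy hf IH
  have hEm : MemGroup D w a E := ⟨fun e he he1 =>
    ⟨(hl.mem e he he1).1, (hl.mem e he he1).2.1, (hwE e he).symm⟩, hl.comm⟩
  obtain ⟨b₁, E₁, q₁, j, hl₁⟩ := h.exists_lData_of_memGroup hld hwm hwa hEm (hl.card_E ▸ four_le_q hl)
  obtain ⟨hle, hmove⟩ := h.memGroupLe _ _ _ _ _ _ hl₁ E hEm
  have hq₁ : q₁ = q := le_antisymm (hl₁.card_E ▸ ht.top w a E₁ hwm hwa ⟨hl₁.mem, hl₁.comm⟩) (hl.card_E ▸ hle)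
  obtain ⟨b₂, hl₂⟩ := hmove (by rw [hl.card_E, hq₁])
  rw [hq₁] at hl₂
  obtain ⟨Q, -, -, hQ, hQt⟩ := h.unipTrans hf IH w a b₂ E q j ⟨hwm, hl₂, ht.top⟩
  obtain ⟨g, hg, hgb⟩ := hQt b hwb hl.ne.symm
  obtain ⟨hga, hgw, hgE⟩ := hQ g hg
  have hl₃ : LData D w a b E q j := by
    have h1 := h.lData_conj hl₂ g
    rw [hgb, hga, show g * w * g⁻¹ = w by rw [hgw.eq, mul_inv_cancel_right]] at h1
    convert h1 using 1
    ext e
    refine ⟨fun he => ⟨e, he, by simp [(hgE e he).eq]⟩, ?_⟩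
    rintro ⟨f, hf, rfl⟩
    simpa [(hgE f hf).eq] using hf
  have hvg : v ∈ fixGrp w a b E := mem_fixGrp_iff.2 ⟨hl.fix_a, hl.fix_b, hwv.symm,
    fun e he => by
      rcases eq_or_ne e 1 with h1 | h1
      · rw [h1]; exact Commute.one_right v
      · exact (hl.mem e he h1).2.2.symm⟩
  rcases h.kernelFix hf IH w a b E q j ⟨hwm, hl₃, ht.top⟩ v hvg
      ⟨1, by rw [pow_one, ← ht.multi.1, pow_orderOf_eq_one]⟩ with h1 | ⟨-, h1⟩
  · exact fun x => ⟨h1 x, hwF x⟩
  · exfalso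
    have e : Nat.card {x : Ω // v • x = x} = Nat.card {x : Ω // w • x = x ∧ v • x = x} :=
      Nat.card_congr (Equiv.subtypeEquivRight fun x => ⟨fun hx => ⟨hwF x hx, hx⟩, And.right⟩)
    rw [hl.card_fix, h1] at e
    have := four_le_q hl
    nlinarith

variable {v : G} {a b : Ω} {E : Subgroup G} {q : ℕ} {Q : Subgroup G}

/-- The translate `Fix (u e)` has `q ^ 2 + 1` points. -/
theorem line_card (hl : LData D v a b E q 2) (htr : HasTrans v a E) {e : G} (he : e ∈ E) :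
    Nat.card {x : Ω // (v * e) • x = x} = q ^ 2 + 1 := by
  obtain ⟨g, -, -, hg⟩ := htr e he
  rw [← hl.card_fix, ← hg]
  exact Nat.card_congr
    { toFun := fun x => ⟨g⁻¹ • x.1, by
        have := x.2
        rw [mul_smul, mul_smul, ← eq_inv_smul_iff] at this
        exact this⟩
      invFun := fun x => ⟨g • x.1, by rw [mul_smul, mul_smul, inv_smul_smul, x.2]⟩
      left_inv := fun x => Subtype.ext (by simp)
      right_inv := fun x => Subtype.ext (by simp) }

/-- Two translates meet only in `a`. -/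
theorem line_inter (hl : LData D v a b E q 2) {e : G} (he : e ∈ E) (he1 : e ≠ 1) {p : Ω}
    (hp : (v * e) • p = p) (hvp : v • p = p) : p = a := by
  refine h.fix_unique e (hl.mem e he he1).1 p a ?_ (hl.mem e he he1).2.1
  rwa [mul_smul, ← eq_inv_smul_iff, show v⁻¹ • p = p from inv_smul_eq_iff.2 hvp.symm] at hp

theorem line_stable (hQ : SzKer D v a b E q Q) {e : G} (he : e ∈ E) {y : G} (hy : y ∈ Q) {p : Ω}
    (hp : (v * e) • p = p) : (v * e) • (y • p) = y • p := by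
  have hc : Commute y (v * e) := (commute_of_mem_cGrp (hQ.le hy)).mul_right (hQ.cent y hy e he)
  rw [← mul_smul, ← hc.eq, mul_smul, hp]

/-- `Q` is semiregular on a translate without `a`. -/
theorem line_free (hl : LData D v a b E q 2) (hQ : SzKer D v a b E q Q) {y : G} (hy : y ∈ Q) {p : Ω} (hpa : p ≠ a)
    (hyp : y • p = p) : y = 1 := by
  by_contra hy1
  obtain ⟨n, hn⟩ := hQ.two ⟨y, hy⟩
  obtain ⟨m, hm⟩ := exists_sq_involution hy1 (congrArg Subtype.val hn : y ^ 2 ^ n = 1)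
  have hz := pow_mem hy (2 ^ m)
  have hzE : y ^ 2 ^ m ∈ E := hQ.invol _ hz (by have h2 := pow_orderOf_eq_one (y ^ 2 ^ m); rwa [hm, pow_two] at h2)
  have hz1 : y ^ 2 ^ m ≠ 1 := fun e => by rw [e, orderOf_one] at hm; omega
  exact hpa (h.fix_unique _ (hl.mem _ hzE hz1).1 p a
    (pow_mem (show y ∈ stabilizer G p from hyp) _) (hl.mem _ hzE hz1).2.1)

theorem line_trans (hl : LData D v a b E q 2) (htr : HasTrans v a E) (hQ : SzKer D v a b E q Q) {e : G} (he : e ∈ E)
    {p p' : Ω} (hp : (v * e) • p = p) (hpa : p ≠ a) (hp' : (v * e) • p' = p') (hpa' : p' ≠ a) :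
    ∃ y ∈ Q, y • p = p' := by
  classical
  haveI := h.finite_points
  let S : Set Ω := {x | (v * e) • x = x} \ {a}
  have hve : (v * e) • a = a := by rw [mul_smul, h.fix_of_mem_E hl he, hl.fix_a]
  have hS : Nat.card S = q ^ 2 := by
    rw [Nat.card_coe_set_eq, Set.ncard_sdiff_singleton_of_mem (show a ∈ {x : Ω | (v * e) • x = x} from hve),
      ← Nat.card_coe_set_eq]
    exact Nat.sub_eq_of_eq_add (h.line_card hl htr he)
  let f : Q → S := fun y => ⟨(y : G) • p, h.line_stable hQ he y.2 hp,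
    fun e1 => hpa (smul_left_cancel (y : G) (e1.trans (hQ.fix_a y y.2).symm))⟩
  have hf : Function.Bijective f := by
    refine (Nat.bijective_iff_injective_and_card f).2 ⟨fun y y' e1 => ?_, by rw [hQ.card, hS]⟩
    have e2 : (y : G) • p = (y' : G) • p := congrArg Subtype.val e1
    have := h.line_free hl hQ (mul_mem (inv_mem y'.2) y.2) hpa (by rw [mul_smul, e2, inv_smul_smul])
    exact Subtype.ext (inv_mul_eq_one.1 this).symm
  obtain ⟨y, hy⟩ := hf.2 ⟨p', hp', hpa'⟩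
  exact ⟨y, y.2, congrArg Subtype.val hy⟩

theorem line_exists (hl : LData D v a b E q 2) (htr : HasTrans v a E) {e : G} (he : e ∈ E) :
    ∃ p : Ω, (v * e) • p = p ∧ p ≠ a := by
  by_contra hc
  push Not at hc
  have h1 := h.line_card hl htr he
  have hs : Subsingleton {x : Ω // (v * e) • x = x} :=
    ⟨fun x y => Subtype.ext ((hc x.1 x.2).trans (hc y.1 y.2).symm)⟩
  have := Finite.card_le_one_iff_subsingleton.2 hs
  have := four_le_q hl
  rw [h1] at *
  nlinarith

/-- An element of the kernel centralising `e` fixes the translate. -/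
theorem line_ker (hl : LData D v a b E q 2) (htr : HasTrans v a E) (hQ : SzKer D v a b E q Q) {e : G} (he : e ∈ E)
    {k : G} (hk : k ∈ kerGrp Ω D v) (hke : Commute k e) {p : Ω} (hp : (v * e) • p = p) : k • p = p := by
  classical
  haveI := Fact.mk Nat.prime_two
  obtain ⟨hkc, hkπ⟩ := mem_kerGrp.1 hk
  have hka : k • a = a := (cProj_eq_one_iff (⟨k, hkc⟩ : cGrp D v)).1 hkπ a hl.fix_a
  rcases eq_or_ne p a with rfl | hpa
  · exact hka
  rcases eq_or_ne e 1 with rfl | he1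
  · rw [mul_one] at hp
    exact (cProj_eq_one_iff (⟨k, hkc⟩ : cGrp D v)).1 hkπ p hp
  have hkp : (v * e) • (k • p) = k • p := by
    have hc : Commute k (v * e) := (commute_of_mem_cGrp hkc).mul_right hke
    rw [← mul_smul, ← hc.eq, mul_smul, hp]
  obtain ⟨y, hy, hyp⟩ := h.line_trans hl htr hQ he hp hpa hkp (fun e1 => hpa (smul_left_cancel k (e1.trans hka.symm)))
  rcases eq_or_ne y 1 with rfl | hy1
  · rw [← hyp, one_smul]
  exfalso
  set x := y⁻¹ * k with hx
  have hxp : x • p = p := by rw [hx, mul_smul, ← hyp, inv_smul_smul]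
  have hxa : x • a = a := by rw [hx, mul_smul, hka]; exact hQ.fix_a _ (inv_mem hy)
  have hxc : x ∈ cGrp D v := mul_mem (inv_mem (hQ.le hy)) hkc
  obtain ⟨n, m, hm, hnm⟩ := Nat.exists_eq_two_pow_mul_odd (orderOf_pos x).ne'
  set g := x ^ m with hg
  have hgn : g ^ 2 ^ n = 1 := by rw [hg, ← pow_mul, mul_comm, ← hnm, pow_orderOf_eq_one]
  have hg1 : g ≠ 1 := by
    intro e1
    set π := cProj Ω D v
    have h1 : π ⟨y⁻¹, inv_mem (hQ.le hy)⟩ ^ m = 1 := by
      have h2 : π (⟨x, hxc⟩ ^ m) = 1 := by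
        rw [show (⟨x, hxc⟩ : cGrp D v) ^ m = 1 from Subtype.ext (by rw [Subgroup.coe_pow]; exact e1), map_one]
      rw [map_pow, show (⟨x, hxc⟩ : cGrp D v) = ⟨y⁻¹, inv_mem (hQ.le hy)⟩ * ⟨k, hkc⟩ from rfl, map_mul, hkπ,
        mul_one] at h2
      exact h2
    have hmem : y⁻¹ ^ m ∈ kerGrp Ω D v := mem_kerGrp.2 ⟨pow_mem (inv_mem (hQ.le hy)) m, by
      rw [← h1, ← map_pow]; rfl⟩
    obtain ⟨j, hj⟩ := hQ.two ⟨y⁻¹, inv_mem hy⟩
    have hj' : y⁻¹ ^ 2 ^ j = 1 := congrArg Subtype.val hj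
    have h3 : y⁻¹ ^ m = 1 := eq_one_of_sq_of_odd_card hQ.ker_odd hmem (n := j) (by
      rw [← pow_mul, mul_comm, pow_mul, hj', one_pow])
    refine hy1 (inv_eq_one.1 (orderOf_eq_one_iff.1 (Nat.eq_one_of_dvd_coprimes
      ((Nat.coprime_two_left.2 hm).pow_left j) (orderOf_dvd_of_pow_eq_one hj') (orderOf_dvd_of_pow_eq_one h3))))
  obtain ⟨i, hi⟩ := exists_sq_involution hg1 hgn
  have hmem : g ^ 2 ^ i ∈ cGrp D v := pow_mem (pow_mem hxc m) _
  exact hpa (h.fix_unique _ (hQ.invMem _ hmem hi) p a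
    (pow_mem (pow_mem (show x ∈ stabilizer G p from hxp) m) _)
    (pow_mem (pow_mem (show x ∈ stabilizer G a from hxa) m) _))

/-- Commutators of the pointwise stabiliser with `<D cap C(u)>` are in the kernel. -/
theorem comm_mem_ker {g x : G} (hgv : Commute g v) (hg : ∀ p : Ω, v • p = p → g • p = p) (hx : x ∈ cGrp D v) :
    g * x * g⁻¹ * x⁻¹ ∈ kerGrp Ω D v := by
  refine mem_kerGrp.2 ⟨mul_mem (conj_mem_cGrp h hgv hx) (inv_mem hx), (cProj_eq_one_iff _).2 fun p hp => ?_⟩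
  show (g * x * g⁻¹ * x⁻¹) • p = p
  have hxp : v • (x⁻¹ • p) = x⁻¹ • p := by
    rw [← mul_smul, ← (commute_of_mem_cGrp (inv_mem hx)).eq, mul_smul, hp]
  rw [mul_smul, mul_smul, mul_smul, inv_smul_eq_iff.2 (hg _ hxp).symm, smul_inv_smul, hg p hp]

/-- The pointwise stabiliser commutes with `Q` on a translate. -/
theorem fixKer_comm_line (hl : LData D v a b E q 2) (htr : HasTrans v a E) (hQ : SzKer D v a b E q Q) {z : G}
    (hz : z ∈ fixKer Ω v E) {e : G} (he : e ∈ E) {y : G} (hy : y ∈ Q) {p : Ω} (hp : (v * e) • p = p) :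
    z • (y • p) = y • (z • p) := by
  obtain ⟨hzF, hzv, hzE⟩ := mem_fixKer.1 hz
  set c := z * y * z⁻¹ * y⁻¹ with hc
  have hck : c ∈ kerGrp Ω D v := h.comm_mem_ker hzv hzF (hQ.le hy)
  have hce : Commute c e := by
    have h1 := hQ.cent y hy e he
    exact (((hzE e he).mul_left h1).mul_left (hzE e he).inv_left).mul_left h1.inv_left
  have hzp : (v * e) • (z • p) = z • p := by
    rw [← mul_smul, ← (hzv.mul_right (hzE e he)).eq, mul_smul, hp]
  have := h.line_ker hl htr hQ he hck hce (h.line_stable hQ he hy hzp)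
  rwa [hc, mul_smul, mul_smul, mul_smul, inv_smul_smul, inv_smul_smul] at this

/-- An element of the pointwise stabiliser acts on a translate as an element of `Q`. -/
theorem exists_shift (hl : LData D v a b E q 2) (htr : HasTrans v a E) (hQ : SzKer D v a b E q Q) {z : G}
    (hz : z ∈ fixKer Ω v E) {e : G} (he : e ∈ E) {p : Ω} (hp : (v * e) • p = p) (hpa : p ≠ a) :
    ∃ y ∈ Q, y • p = z • p := by
  obtain ⟨hzF, hzv, hzE⟩ := mem_fixKer.1 hz
  refine h.line_trans hl htr hQ he hp hpa ?_ fun e1 => hpa (smul_left_cancel z (e1.trans (hzF a hl.fix_a).symm))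
  rw [← mul_smul, ← (hzv.mul_right (hzE e he)).eq, mul_smul, hp]

end Crit

end CfsgLib.AschCrit
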