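import Cfsg.Agent.Lib.Invol.AschCrit.Pairing.Sigma
import Cfsg.Agent.Lib.ZStar.Main
import Mathlib.GroupTheory.QuotientGroup.Basic

/-!
Owner: helper16. Aschbacher's criterion, `NoPairing`: `C(E) = P`.

* `Ctx.no_fusion`: `u` is not conjugate to another involution of `R` in `C(E)` stabilising `Fix u`.
* `Ctx.cent_E`: `C(E) = P`, from isolation modulo `E` and the Z* theorem.
-/

set_option autoImplicit false
set_option linter.unusedSectionVars false
set_option linter.style.haveILetI false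

namespace CfsgLib.AschCrit.Pairing

open Subgroup MulAction

universe u

variable {G : Type u} [Group G] {Ω : Type u} [MulAction G Ω]

namespace Ctx

variable [Finite G] {D : Set G} {v : G} {a b : Ω} {E : Subgroup G} {q : ℕ} {Q P R : Subgroup G}
  (C : Ctx D v a b E q Q P R)
include C

/-- What stabilises `Fix u` at `a` and normalises `E` normalises `Q`. -/
theorem norm_Q {g : G} (hgF : PresF Ω v g) (hgE : ∀ e ∈ E, g * e * g⁻¹ ∈ E) {y : G} (hy : y ∈ Q) :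
    g * y * g⁻¹ ∈ Q := by
  obtain ⟨e, he, he1, -⟩ := C.exists_line_point
  have hc : Commute (g * y * g⁻¹) (g * e * g⁻¹) := (Commute.conj_iff g).2 (C.ker.cent y hy e he)
  obtain ⟨y', hy', h1⟩ := C.ker.centInv _ (C.conj_cGrp hgF (C.ker.le hy)) _ (hgE e he)
    (fun e1 => he1 (conj_eq_one_iff.1 e1)) (by rw [hc.eq, mul_inv_cancel_right, mul_inv_cancel]; exact one_mem _)
  rw [← inv_mul_eq_one.1 (C.reg.ker _ h1)]
  exact hy'

theorem mul_self_R (r : G) (hr : r ∈ R) : r * r = 1 := C.R_sq hr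

theorem order_R {r : G} (hr : r ∈ R) (hr1 : r ≠ 1) : orderOf r = 2 :=
  orderOf_eq_prime (by rw [pow_two]; exact C.R_sq hr) hr1

/-- `u` is not fused to another involution of `R` by an element stabilising `Fix u` and `b`. -/
theorem no_fusion {r g : G} (hr : r ∈ R) (hr2 : orderOf r = 2) (hgb : g • b = b) (hgE : ∀ e ∈ E, Commute g e)
    (hgF : PresF Ω v g) (hgv : g * v * g⁻¹ = r) : r = v := by
  classical
  by_contra hrv
  have hl := C.ldata
  have hfix := C.stab_fix hgb hgE hgF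
  have hgc : ∀ {x : G}, x ∈ cGrp D v → g * x * g⁻¹ = x := fun hx => conj_eq_of_commute (C.commute_of_fix hfix hx)
  have hgR : ∀ z ∈ R, g * z * g⁻¹ ∈ R := fun z hz => C.mem_R (fun x hx => by
      have hgx : g⁻¹ • x = x := inv_smul_eq_iff.2 (hfix x hx).symm
      rw [mul_smul, mul_smul, hgx, C.data.R_fixes hz hx, hfix x hx])
    (fun e he => ((hgE e he).mul_left (C.data.R_commute_E hz he)).mul_left (hgE e he).inv_left) hr hr2
    (by rw [← hgv]; exact (Commute.conj_iff g).2 (C.data.R_commute_u hz))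
  obtain ⟨k, -, hka, hkb, hkv, hkR, hkE, hktr⟩ := C.torus
  -- the translation attached to a translation
  have hprime : ∀ {x e : G}, x ∈ P → e ∈ E → e ≠ 1 → x * v * x⁻¹ = v * e →
      g * x * g⁻¹ ∈ P ∧ ∃ e₁ ∈ E, e₁ ≠ 1 ∧ e₁ ≠ e ∧ g * x * g⁻¹ * v * (g * x * g⁻¹)⁻¹ = v * e₁ := by
    intro x e hx he he1 hxe
    set x' := g * x * g⁻¹ with hx'
    have hxr : x' * r * x'⁻¹ = r * e := by
      rw [hx', ← hgv]
      calc g * x * g⁻¹ * (g * v * g⁻¹) * (g * x * g⁻¹)⁻¹ = g * (x * v * x⁻¹) * g⁻¹ := by group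
        _ = g * v * g⁻¹ * (g * e * g⁻¹) := by rw [hxe]; group
        _ = _ := by rw [conj_eq_of_commute (hgE e he)]
    obtain ⟨x₁, hx₁, hxr₁⟩ := C.shift_surj hr hr2 he
    have hmem : x₁⁻¹ * x' ∈ P := C.stab_mem (fun f hf => (C.P_commute_E hx₁ hf).inv_left.mul_left
      (((hgE f hf).mul_left (C.P_commute_E hx hf)).mul_left (hgE f hf).inv_left)) hr hr2 (commute_of_conj_eq (by
        calc x₁⁻¹ * x' * r * (x₁⁻¹ * x')⁻¹ = x₁⁻¹ * (x' * r * x'⁻¹) * x₁ := by group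
          _ = r := by rw [hxr, ← hxr₁]; group))
    have hx'P : x' ∈ P := by
      rw [show x' = x₁ * (x₁⁻¹ * x') by group]; exact mul_mem hx₁ hmem
    obtain ⟨e₁, he₁, hxe₁⟩ := C.P_shift hx'P
    refine ⟨hx'P, e₁, he₁, fun e1 => he1 ?_, fun e1 => he1 (C.shift_ne hr hr2 hrv hx'P (e1 ▸ hxe₁) hxr he), hxe₁⟩
    have h1 := conj_eq_of_commute (C.cent_S hx'P (commute_of_conj_eq (by rw [hxe₁, e1, mul_one])) hr hr2)
    rw [hxr] at h1
    exact mul_eq_left.1 h1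
  -- the squares of translations are in `E`
  have hsq : ∀ {x e : G}, x ∈ P → e ∈ E → e ≠ 1 → x * v * x⁻¹ = v * e → x * x ∈ E := by
    intro x e hx he he1 hxe
    obtain ⟨hx', e₁, he₁, he₁1, he₁e, hxe₁⟩ := hprime hx he he1 hxe
    have hcv : Commute (x * x) v := commute_of_conj_eq (by
      calc x * x * v * (x * x)⁻¹ = x * (x * v * x⁻¹) * x⁻¹ := by group
        _ = x * (v * e) * x⁻¹ := by rw [hxe]
        _ = (x * v * x⁻¹) * (x * e * x⁻¹) := by group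
        _ = v := by rw [hxe, conj_eq_of_commute (C.P_commute_E hx he), mul_assoc, C.crit.sq_E hl he, mul_one])
    obtain ⟨y₀, hy₀, r₀, hr₀, hxx⟩ := C.data.decomp _ (mul_mem hx hx) hcv
    obtain ⟨j, hj⟩ := hktr e he e₁ he₁ he1 he₁1
    set κ := k ^ j with hκ
    have hκv : Commute κ v := hkv.pow_left j
    have hκF : PresF Ω v κ := presF_of_commute hκv
    have hκE : ∀ f ∈ E, κ * f * κ⁻¹ ∈ E := fun f hf => (C.torus_pow hkE j hf).1
    set z := κ * x * κ⁻¹ with hz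
    have hzP : z ∈ P := C.torus_conj hka hkv hkE j hx
    have hzv : z * v * z⁻¹ = v * e₁ := by
      rw [hz, show κ * x * κ⁻¹ * v * (κ * x * κ⁻¹)⁻¹ = κ * x * (κ⁻¹ * v * κ) * x⁻¹ * κ⁻¹ by group,
        show κ⁻¹ * v * κ = v by rw [mul_assoc, ← hκv.eq, inv_mul_cancel_left],
        show κ * x * v * x⁻¹ * κ⁻¹ = κ * (x * v * x⁻¹) * κ⁻¹ by group, hxe,
        show κ * (v * e) * κ⁻¹ = (κ * v * κ⁻¹) * (κ * e * κ⁻¹) by group, conj_eq_of_commute hκv, hj]
    set x' := g * x * g⁻¹ with hx'def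
    have hw : z⁻¹ * x' ∈ P := mul_mem (inv_mem hzP) hx'
    obtain ⟨y₃, hy₃, r₃, hr₃, hw3⟩ := C.data.decomp _ hw (commute_of_conj_eq (by
      calc z⁻¹ * x' * v * (z⁻¹ * x')⁻¹ = z⁻¹ * (x' * v * x'⁻¹) * z := by group
        _ = v := by rw [hxe₁, ← hzv]; group))
    obtain ⟨y₃', hy₃', ρ, hρ, hzy, hd, hρρ⟩ := C.data.conj_Q hl C.ker (inv_mem hzP) hy₃
    rw [inv_inv] at hzy
    obtain ⟨f₃, hf₃, hzr⟩ : ∃ f₃ ∈ E, z⁻¹ * r₃ * z = r₃ * f₃ := by
      rcases eq_or_ne r₃ 1 with rfl | h1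
      · exact ⟨1, one_mem _, by group⟩
      · obtain ⟨f, hf, h2⟩ := C.shift_R hr₃ (C.order_R hr₃ h1) (inv_mem hzP)
        rw [inv_inv] at h2
        exact ⟨f, hf, h2⟩
    have hκy : κ * y₀ * κ⁻¹ ∈ Q := C.norm_Q hκF hκE hy₀
    have hf₃Q := C.ker.E_le hf₃
    have hsq' : x' * x' = (κ * y₀ * κ⁻¹ * (y₃' * (f₃ * y₃))) * (r₀ * ρ) := by
      have h1 : x' * x' = (z * z) * ((z⁻¹ * (y₃ * r₃) * z) * (y₃ * r₃)) := by
        rw [show x' = z * (y₃ * r₃) by rw [← hw3, mul_inv_cancel_left]]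
        group
      have h2 : z * z = κ * y₀ * κ⁻¹ * r₀ := by
        rw [hz, show κ * x * κ⁻¹ * (κ * x * κ⁻¹) = κ * (x * x) * κ⁻¹ by group, hxx,
          show κ * (y₀ * r₀) * κ⁻¹ = κ * y₀ * κ⁻¹ * (κ * r₀ * κ⁻¹) by group,
          conj_eq_of_commute ((hkR r₀ hr₀).pow_left j)]
      have c1 := (C.data.comm y₃ hy₃ r₃ hr₃).eq
      have c3 := (C.data.comm f₃ hf₃Q r₃ hr₃).eq
      have c4 := (C.data.comm y₃' hy₃' r₀ hr₀).eq
      have c5 := (C.data.comm (f₃ * y₃) (mul_mem hf₃Q hy₃) ρ hρ).eq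
      have c6 := (C.data.comm (f₃ * y₃) (mul_mem hf₃Q hy₃) r₀ hr₀).eq
      rw [h1, h2, show z⁻¹ * (y₃ * r₃) * z = (z⁻¹ * y₃ * z) * (z⁻¹ * r₃ * z) by group, hzy, hzr]
      have h3 : r₃ * f₃ * (y₃ * r₃) = f₃ * y₃ := by
        rw [← c3, show f₃ * r₃ * (y₃ * r₃) = f₃ * (r₃ * y₃) * r₃ by group, ← c1,
          show f₃ * (y₃ * r₃) * r₃ = f₃ * y₃ * (r₃ * r₃) by group, C.R_sq hr₃, mul_one]
      calc κ * y₀ * κ⁻¹ * r₀ * (y₃' * ρ * (r₃ * f₃) * (y₃ * r₃))
            = κ * y₀ * κ⁻¹ * (r₀ * y₃') * ρ * (r₃ * f₃ * (y₃ * r₃)) := by group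
        _ = κ * y₀ * κ⁻¹ * y₃' * r₀ * (ρ * (f₃ * y₃)) := by rw [h3, ← c4]; group
        _ = κ * y₀ * κ⁻¹ * y₃' * (r₀ * (f₃ * y₃)) * ρ := by rw [← c5]; group
        _ = _ := by rw [← c6]; group
    have hsq'' : x' * x' = y₀ * (g * r₀ * g⁻¹) := by
      rw [hx'def, show g * x * g⁻¹ * (g * x * g⁻¹) = g * (x * x) * g⁻¹ by group, hxx,
        show g * (y₀ * r₀) * g⁻¹ = g * y₀ * g⁻¹ * (g * r₀ * g⁻¹) by group, hgc (C.ker.le hy₀)]
    obtain ⟨hq1, -⟩ := C.data.eq_of_mul_eq hl C.ker hy₀ (mul_mem hκy (mul_mem hy₃' (mul_mem hf₃Q hy₃)))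
      (hgR r₀ hr₀) (mul_mem hr₀ hρ) (hsq''.symm.trans hsq')
    -- `y₀` is in `E`
    have hy₀E : y₀ ∈ E := by
      by_contra hy₀E
      set e₂ := y₀ * y₀ with he₂
      have he₂E : e₂ ∈ E := C.ker.sq y₀ hy₀
      have he₂1 : e₂ ≠ 1 := fun e1 => hy₀E (C.ker.invol y₀ hy₀ e1)
      have hε : y₃' * (f₃ * y₃) ∈ E := by
        set d := y₃⁻¹ * y₃' with hd'
        rw [show y₃' = y₃ * d by rw [hd', mul_inv_cancel_left],
          show y₃ * d * (f₃ * y₃) = y₃ * (d * f₃ * y₃) by group,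
          ← (C.ker.cent y₃ hy₃ (d * f₃) (mul_mem hd hf₃)).eq, ← mul_assoc]
        exact mul_mem (C.ker.sq y₃ hy₃) (mul_mem hd hf₃)
      set ε := y₃' * (f₃ * y₃)
      have hfixed : κ * e₂ * κ⁻¹ = e₂ := by
        rw [he₂]
        conv_rhs => rw [hq1]
        rw [show κ * y₀ * κ⁻¹ * ε * (κ * y₀ * κ⁻¹ * ε) = κ * y₀ * κ⁻¹ * (ε * (κ * y₀ * κ⁻¹)) * ε by group,
          ← (C.ker.cent _ hκy ε hε).eq,
          show κ * y₀ * κ⁻¹ * (κ * y₀ * κ⁻¹ * ε) * ε = κ * y₀ * κ⁻¹ * (κ * y₀ * κ⁻¹) * (ε * ε) by group,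
          C.crit.sq_E hl hε, mul_one]
        group
      obtain ⟨i, hi⟩ := hktr e₂ he₂E e he he₂1 he1
      refine he₁e ?_
      rw [← hj, ← hi, hκ]
      calc k ^ j * (k ^ i * e₂ * (k ^ i)⁻¹) * (k ^ j)⁻¹ = (k ^ j * k ^ i) * e₂ * (k ^ j * k ^ i)⁻¹ := by group
        _ = k ^ i * (κ * e₂ * κ⁻¹) * (k ^ i)⁻¹ := by rw [(Commute.pow_pow_self k j i).eq, hκ]; group
        _ = _ := by rw [hfixed]
    rcases eq_or_ne r₀ 1 with rfl | hr₀1
    · rw [hxx, mul_one]; exact hy₀E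
    · exfalso
      have hc : Commute x r₀ := by
        have h1 : Commute x (y₀⁻¹ * (x * x)) :=
          (C.P_commute_E hx hy₀E).inv_right.mul_right ((Commute.refl x).mul_right (Commute.refl x))
        rwa [hxx, inv_mul_cancel_left] at h1
      have h2 := conj_eq_of_commute (C.shift_inj hr₀ (C.order_R hr₀ hr₀1) hx hc)
      rw [hxe] at h2
      exact he1 (mul_eq_left.1 h2)
  -- a translation centralising `Q`
  obtain ⟨e, he, he1, -⟩ := C.exists_line_point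
  obtain ⟨x, hx, hxe⟩ := C.data.shift e he
  obtain ⟨hx', e₁, he₁, -, he₁e, hxe₁⟩ := hprime hx he he1 hxe
  set x' := g * x * g⁻¹ with hx'def
  have hQc : ∀ y ∈ Q, Commute (x' * x⁻¹) y := by
    intro y hy
    have hxy : x * y * v * (x * y)⁻¹ = v * e := by
      rw [show x * y * v * (x * y)⁻¹ = x * (y * v * y⁻¹) * x⁻¹ by group,
        conj_eq_of_commute (commute_of_mem_cGrp (C.ker.le hy)), hxe]
    have h1 := mul_mem (inv_mem (hsq hx he he1 hxe)) (hsq (mul_mem hx (C.data.Q_le hy)) he he1 hxy)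
    rw [show (x * x)⁻¹ * (x * y * (x * y)) = x⁻¹ * y * x * y by group] at h1
    have h2 : g * (x⁻¹ * y * x) * g⁻¹ = x⁻¹ * y * x := by
      refine hgc ?_
      rw [show x⁻¹ * y * x = x⁻¹ * y * x * y * y⁻¹ by group]
      exact mul_mem (C.ker.le (C.ker.E_le h1)) (inv_mem (C.ker.le hy))
    have h3 : x'⁻¹ * y * x' = x⁻¹ * y * x := by
      rw [hx'def]
      calc (g * x * g⁻¹)⁻¹ * y * (g * x * g⁻¹) = g * (x⁻¹ * (g⁻¹ * y * g) * x) * g⁻¹ := by group
        _ = g * (x⁻¹ * y * x) * g⁻¹ := by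
            rw [show g⁻¹ * y * g = y by
              conv_lhs => rw [← hgc (C.ker.le hy)]
              group]
        _ = _ := h2
    have h4 : y * (x' * x⁻¹) = x' * x⁻¹ * y := by
      calc y * (x' * x⁻¹) = x' * (x'⁻¹ * y * x') * x⁻¹ := by group
        _ = x' * x⁻¹ * y := by rw [h3]; group
    exact h4.symm
  set z := x' * x⁻¹ with hz
  have hzP : z ∈ P := mul_mem hx' (inv_mem hx)
  have hxinv : x⁻¹ * v * x⁻¹⁻¹ = v * e := by
    have h1 : x⁻¹ * (v * e) * x = v := by rw [← hxe]; group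
    calc x⁻¹ * v * x⁻¹⁻¹ = x⁻¹ * (v * e) * x * (x⁻¹ * e * x)⁻¹ := by group
      _ = v * e⁻¹ := by
        rw [h1, show x⁻¹ * e * x = e by rw [mul_assoc, ← (C.P_commute_E hx he).eq, inv_mul_cancel_left]]
      _ = v * e := by rw [inv_eq_of_mul_eq_one_right (C.crit.sq_E hl he)]
  have hze : z * v * z⁻¹ = v * (e₁ * e) := by
    rw [hz, show x' * x⁻¹ * v * (x' * x⁻¹)⁻¹ = x' * (x⁻¹ * v * x⁻¹⁻¹) * x'⁻¹ by group, hxinv,
      show x' * (v * e) * x'⁻¹ = (x' * v * x'⁻¹) * (x' * e * x'⁻¹) by group, hxe₁,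
      conj_eq_of_commute (C.P_commute_E hx' he), mul_assoc]
  have hne : e₁ * e ≠ 1 := fun e1 => he₁e (by
    rw [eq_inv_of_mul_eq_one_left e1, inv_eq_of_mul_eq_one_right (C.crit.sq_E hl he)])
  have hzz := hsq hzP (mul_mem he₁ he) hne hze
  obtain ⟨y, hy, hyy⟩ := C.ker.sq_onto _ hzz
  have hinv : z * y * (z * y) = 1 := by
    rw [show z * y * (z * y) = z * (y * z) * y by group, ← (hQc y hy).eq,
      show z * (z * y) * y = z * z * (y * y) by group, hyy, C.crit.sq_E hl hzz]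
  have h1 := conj_eq_of_commute (C.data.inv _ (mul_mem hzP (C.data.Q_le hy)) hinv)
  rw [show z * y * v * (z * y)⁻¹ = z * (y * v * y⁻¹) * z⁻¹ by group,
    conj_eq_of_commute (commute_of_mem_cGrp (C.ker.le hy)), hze] at h1
  exact hne (mul_eq_left.1 h1)

/-- A conjugate of `u` in `C(E)` commuting with it modulo `E` is in `u E`. -/
theorem isolated {g : G} (hgE : ∀ e ∈ E, Commute g e) (hc : v * (g * v * g⁻¹) * v * (g * v * g⁻¹) ∈ E) :
    v⁻¹ * (g * v * g⁻¹) ∈ E := by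
  have hl := C.ldata
  set w := g * v * g⁻¹ with hw
  have hvE : ∀ e ∈ E, Commute v e := fun e he => C.data.R_commute_E C.data.u_mem he
  have hvv : v * v = 1 := by rw [← pow_two, ← C.top.multi.1, pow_orderOf_eq_one]
  have hww : w * w = 1 := by rw [hw, show g * v * g⁻¹ * (g * v * g⁻¹) = g * (v * v) * g⁻¹ by group, hvv]; group
  have hwE : ∀ e ∈ E, Commute w e := fun e he => ((hgE e he).mul_left (hvE e he)).mul_left (hgE e he).inv_left
  have hwP : w ∈ P := C.mem_P ⟨C.fixes_a hwE, hwE, by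
    rw [inv_eq_of_mul_eq_one_right hvv, inv_eq_of_mul_eq_one_right hww,
      show v * (w * v * w) = v * w * v * w by group]
    exact hc⟩
  obtain ⟨r, hr, f, hf, hrr, hwrf⟩ := C.invol_P hwP hww
  have hr1 : r ≠ 1 := by
    rintro rfl
    rw [one_mul] at hwrf
    rcases eq_or_ne f 1 with h1 | h1
    · have h2 : v = 1 := conj_eq_one_iff.1 (hwrf.trans h1)
      have := C.top.multi.1
      rw [h2, orderOf_one] at this
      omega
    · refine C.crit.multi_not_mem C.top.multi ?_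
      have h3 := C.crit.conjBack (hwrf ▸ (hl.mem f hf h1).1 : w ∈ D) g
      rwa [hw, show g⁻¹ * (g * v * g⁻¹) * g = v by group] at h3
  have hr2 := C.order_R hr hr1
  obtain ⟨x, hx, hxr⟩ := C.shift_surj hr hr2 hf
  set g' := x⁻¹ * g with hg'
  have hgv : g' * v * g'⁻¹ = r := by
    rw [hg', show x⁻¹ * g * v * (x⁻¹ * g)⁻¹ = x⁻¹ * (g * v * g⁻¹) * x by group, ← hw, hwrf, ← hxr]
    group
  have hg'E : ∀ e ∈ E, Commute g' e := fun e he => (C.P_commute_E hx he).inv_left.mul_left (hgE e he)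
  have hg'F : PresF Ω v g' := fun p => by
    rw [← (C.invol_R hr hr2).2 (g' • p), ← hgv, mul_smul, mul_smul, inv_smul_smul, smul_left_cancel_iff]
  obtain ⟨y, hy, hyb⟩ := C.ker.trans (g' • b) ((hg'F b).1 hl.fix_b)
    fun e => hl.ne (smul_left_cancel g' ((C.fixes_a hg'E).trans e.symm))
  have hrv := C.no_fusion hr hr2 (g := y⁻¹ * g') (by rw [mul_smul, ← hyb, inv_smul_smul])
    (fun e he => (C.ker.cent y hy e he).inv_left.mul_left (hg'E e he))
    ((presF_of_commute (commute_of_mem_cGrp (C.ker.le (inv_mem hy)))).mul hg'F) (by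
      rw [show y⁻¹ * g' * v * (y⁻¹ * g')⁻¹ = y⁻¹ * (g' * v * g'⁻¹) * y by group, hgv, mul_assoc,
        ← (C.data.comm y hy r hr).eq, inv_mul_cancel_left])
  rw [hwrf, hrv, inv_mul_cancel_left]
  exact hf

/-- The centraliser of `E` is `P`. -/
theorem cent_E {g : G} (hgE : ∀ e ∈ E, Commute g e) : g ∈ P := by
  classical
  haveI := Fact.mk Nat.prime_two
  have hl := C.ldata
  obtain ⟨r, hr, hr2, hrv⟩ := C.data.exists_second C.crit C.top C.ker
  set K := Subgroup.centralizer (E : Set G) with hK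
  have hmemK : ∀ {x : G}, x ∈ K ↔ ∀ e ∈ E, Commute x e := fun {x} =>
    ⟨fun hx e he => (Subgroup.mem_centralizer_iff.1 hx e he).symm,
      fun hx => Subgroup.mem_centralizer_iff.2 fun e he => (hx e he).symm⟩
  set E' := E.subgroupOf K with hE'
  haveI hn : E'.Normal := ⟨fun x hx y => by
    rw [hE', Subgroup.mem_subgroupOf] at hx ⊢
    rw [Subgroup.coe_mul, Subgroup.coe_mul, Subgroup.coe_inv, conj_eq_of_commute (hmemK.1 y.2 _ hx)]
    exact hx⟩
  set X := K ⧸ E'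
  let π : K →* X := QuotientGroup.mk' E'
  have hπ1 : ∀ x : K, π x = 1 ↔ (x : G) ∈ E := fun x =>
    (QuotientGroup.eq_one_iff x).trans Subgroup.mem_subgroupOf
  have hπs : Function.Surjective π := QuotientGroup.mk'_surjective E'
  have hRK : ∀ z ∈ R, z ∈ K := fun z hz => hmemK.2 fun e he => C.data.R_commute_E hz he
  set vK : K := ⟨v, hRK v C.data.u_mem⟩
  set rK : K := ⟨r, hRK r hr⟩
  have hsq : ∀ z : K, (z : G) * z = 1 → π z * π z = 1 := fun z hz => by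
    rw [← map_mul, show z * z = 1 from Subtype.ext hz, map_one]
  have hvv : v * v = 1 := C.R_sq C.data.u_mem
  have hv2 : orderOf (π vK) = 2 := orderOf_eq_prime (by rw [pow_two]; exact hsq vK hvv) fun e => by
    have h1 := C.R_inter_E C.data.u_mem ((hπ1 vK).1 e)
    have h2 := C.top.multi.1
    rw [h1, orderOf_one] at h2
    omega
  have hiso : Cfsg.IsIsolatedInvolution (π vK) := ⟨hv2, fun x hx => by
    obtain ⟨y, rfl⟩ := hπs x
    have h1 : π (vK * (y * vK * y⁻¹) * vK * (y * vK * y⁻¹)) = 1 := by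
      have h0 := hsq vK hvv
      simp only [map_mul, map_inv] at hx h0 ⊢
      rw [show π vK * (π y * π vK * (π y)⁻¹) * π vK * (π y * π vK * (π y)⁻¹) =
        (π vK * (π y * π vK * (π y)⁻¹)) * (π vK * (π y * π vK * (π y)⁻¹)) by group]
      have h2 : π y * π vK * (π y)⁻¹ * (π y * π vK * (π y)⁻¹) = 1 := by
        rw [show π y * π vK * (π y)⁻¹ * (π y * π vK * (π y)⁻¹) = π y * (π vK * π vK) * (π y)⁻¹ by group, h0]
        group
      rw [← pow_two, hx.mul_pow, pow_two, pow_two, h0, h2, mul_one]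
    have h2 := C.isolated (g := y) (hmemK.1 y.2) ((hπ1 _).1 h1)
    have h3 : π (vK⁻¹ * (y * vK * y⁻¹)) = 1 := (hπ1 _).2 h2
    rw [map_mul, map_inv, inv_mul_eq_one] at h3
    rw [← map_inv, ← map_mul, ← map_mul]
    exact h3.symm⟩
  set N := Cfsg.oddCore X
  haveI : N.Normal := inferInstance
  have hfree : ∀ z (hz : z ∈ R), z ≠ 1 → ∀ x ∈ N, π ⟨z, hRK z hz⟩ * x * (π ⟨z, hRK z hz⟩)⁻¹ = x → x = 1 := by
    intro z hz hz1 x hxN hfix
    obtain ⟨n, rfl⟩ := hπs x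
    have h1 : π (n * ⟨z, hRK z hz⟩ * n⁻¹ * ⟨z, hRK z hz⟩⁻¹) = 1 := by
      rw [map_mul, map_mul, map_mul, map_inv, map_inv, mul_inv_eq_one, mul_inv_eq_iff_eq_mul]
      exact (mul_inv_eq_iff_eq_mul.1 hfix).symm
    have h2 : (n : G) * z * (n : G)⁻¹ * z⁻¹ ∈ E := (hπ1 _).1 h1
    set f := z⁻¹ * ((n : G) * z * (n : G)⁻¹) with hf
    have hfE : f ∈ E := by
      have h3 := conj_eq_of_commute (C.data.R_commute_E hz h2).inv_left
      have h4 : f = z⁻¹ * ((n : G) * z * (n : G)⁻¹ * z⁻¹) * z⁻¹⁻¹ := by rw [hf]; group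
      rw [h4, h3]; exact h2
    obtain ⟨x, hx, hxz⟩ := C.shift_surj hz (C.order_R hz hz1) hfE
    have hm : x⁻¹ * (n : G) ∈ P := C.stab_mem
      (fun e he => (C.P_commute_E hx he).inv_left.mul_left (hmemK.1 n.2 e he)) hz (C.order_R hz hz1)
      (commute_of_conj_eq (by
        calc x⁻¹ * (n : G) * z * (x⁻¹ * (n : G))⁻¹ = x⁻¹ * (z * f) * x := by rw [hf]; group
          _ = z := by rw [← hxz]; group))
    have hnP : (n : G) ∈ P := by
      rw [show (n : G) = x * (x⁻¹ * n) by group]; exact mul_mem hx hm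
    obtain ⟨m, hm'⟩ := C.data.two ⟨n, hnP⟩
    exact eq_one_of_sq_of_odd_card (CfsgLib.ZStar.odd_card_oddCore X) hxN (n := m) (by
      rw [← map_pow, show n ^ 2 ^ m = 1 from Subtype.ext (congrArg Subtype.val hm' : (n : G) ^ 2 ^ m = 1), map_one])
  have hN : N = ⊥ := by
    have hr1 : r ≠ 1 := fun e => by rw [e, orderOf_one] at hr2; omega
    have hv1 : v ≠ 1 := fun e => by
      have := C.top.multi.1
      rw [e, orderOf_one] at this
      omega
    refine eq_bot_of_three (i := π vK) (j := π rK) (hsq vK hvv) (hsq rK (C.R_sq hr)) ?_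
      (fun x hx => Subgroup.Normal.conj_mem inferInstance x hx _) (fun x hx => Subgroup.Normal.conj_mem inferInstance x hx _)
      (hfree v C.data.u_mem hv1) (hfree r hr hr1) fun x hx hfix => ?_
    · rw [← map_mul, ← map_mul, show vK * rK = rK * vK from Subtype.ext (C.data.R_commute_u hr).eq.symm]
    · refine hfree (v * r) (mul_mem C.data.u_mem hr) (fun e => hrv ?_) x hx ?_
      · rw [eq_inv_of_mul_eq_one_right e, inv_eq_of_mul_eq_one_right hvv]
      · rw [show (⟨v * r, hRK _ (mul_mem C.data.u_mem hr)⟩ : K) = vK * rK from rfl, map_mul]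
        exact hfix
  obtain ⟨gK, rfl⟩ : ∃ gK : K, (gK : G) = g := ⟨⟨g, hmemK.2 hgE⟩, rfl⟩
  have h1 := CfsgLib.ZStar.mem_oddCore_of_isolated hiso (π gK)
  rw [show Cfsg.oddCore X = N from rfl, hN, Subgroup.mem_bot] at h1
  have h2 : π (vK⁻¹ * (gK * vK * gK⁻¹)) = 1 := by
    rw [map_mul, map_inv, map_mul, map_mul, map_inv, inv_mul_eq_one]
    rw [mul_inv_eq_one, mul_inv_eq_iff_eq_mul] at h1
    rw [← h1, mul_inv_cancel_right]
  exact C.mem_P ⟨C.fixes_a hgE, hgE, (hπ1 _).1 h2⟩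

end Ctx

end CfsgLib.AschCrit.Pairing
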