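import Cfsg.Agent.Lib.Invol.AschCrit.Pairing.Basic
import Cfsg.Agent.Lib.Invol.AschCrit.FormulaProof

/-!
Owner: helper16. Aschbacher's criterion, `NoPairing`: a second involution in the pointwise stabiliser makes
`<D cap C(u)>` regular on the moved points.

* `Reg`: the kernel is trivial, the group is regular off `Fix u` and the members at `a` are those in `E`.
* `Crit.regular`: this holds if `fixKer` has an involution besides `u`.
-/

set_option autoImplicit false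
set_option linter.unusedSectionVars false
set_option linter.style.haveILetI false

namespace CfsgLib.AschCrit

open Subgroup MulAction

universe u

variable {G : Type u} [Group G] {Ω : Type u} [MulAction G Ω]

/-- The situation forced by a second involution fixing all fixed points of `u`. -/
structure Reg (D : Set G) (u : G) (a : Ω) (E : Subgroup G) : Prop where
  ker : ∀ k ∈ kerGrp Ω D u, k = 1
  free : ∀ l ∈ cGrp D u, ∀ c : Ω, u • c ≠ c → l • c = c → l = 1
  trans : ∀ c c' : Ω, u • c ≠ c → u • c' ≠ c' → ∃ l ∈ cGrp D u, l • c = c'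
  mems : ∀ d ∈ D, d • a = a → d ∈ E

namespace Crit

variable [Finite G] {D : Set G} (h : Crit Ω D)
include h

/-- The points moved by `u`, and the members, when `fixKer` has a second involution. -/
theorem regular (hf : Faithful G Ω) (IH : Below.{u, u} (Nat.card G)) {v : G} {a b : Ω} {E : Subgroup G}
    {q : ℕ} (ht : TopFrame D v a b E q 2) (htr : HasTrans v a E) {Q : Subgroup G} (hQ : SzKer D v a b E q Q)
    {w : G} (hw : w ∈ fixKer Ω v E) (hw2 : orderOf w = 2) (hwv : w ≠ v) :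
    Reg D v a E ∧ Nat.card Ω = q ^ 2 + 1 + (q ^ 2 + 1) * q ^ 2 * (q - 1) := by
  classical
  haveI := Fact.mk Nat.prime_two
  haveI := h.finite_points
  have hl := ht.data
  have hq4 := four_le_q hl
  set π := cProj Ω D v with hπ
  have hEc : ∀ e ∈ E, e ∈ cGrp D v := fun e he => hQ.le (hQ.E_le he)
  have hvv : v * v = 1 := by rw [← pow_two, ← ht.multi.1, pow_orderOf_eq_one]
  obtain ⟨hwF, hwc, hwE⟩ := mem_fixKer.1 hw
  have hww : w * w = 1 := by rw [← pow_two, ← hw2, pow_orderOf_eq_one]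
  obtain ⟨e, he, he1⟩ : ∃ e ∈ E, e ≠ (1 : G) := by
    by_contra hc
    push Not at hc
    have h4 := hq4
    rw [← hl.card_E, (Subgroup.eq_bot_iff_forall E).2 hc, Subgroup.card_bot] at h4
    omega
  obtain ⟨p, hp, hpa⟩ := h.line_exists hl htr he
  have hvp : v • p = e • p := by
    have e1 : v • (e • p) = p := by rw [← mul_smul]; exact hp
    calc v • p = v • (v • (e • p)) := by rw [e1]
      _ = e • p := by rw [← mul_smul, hvv, one_smul]
  have hpv : v • p ≠ p := fun e1 => hpa (h.line_inter hl he he1 hp e1)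
  obtain ⟨y, hy, hyp⟩ := h.exists_shift hl htr hQ hw he hp hpa
  have hyy : y * y = 1 := h.line_free hl hQ (mul_mem hy hy) hpa (by
    rw [mul_smul, hyp, ← h.fixKer_comm_line hl htr hQ hw he hy hp, hyp, ← mul_smul, hww, one_smul])
  have hyE := hQ.invol y hy hyy
  have hy1 : y ≠ 1 := fun e1 => hpv (((h.fix_eq_of_mem hf IH ht hw hw2).2 p).1 (by rw [← hyp, e1, one_smul]))
  have hye : y ≠ e := fun e1 => by
    have hm : v * w ∈ fixKer Ω v E := mem_fixKer.2 ⟨fun x hx => by rw [mul_smul, hwF x hx, hx],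
      (Commute.refl v).mul_left hwc, fun f hf' => by
        rcases eq_or_ne f 1 with h1 | h1
        · rw [h1]; exact Commute.one_right _
        · exact (hl.mem f hf' h1).2.2.symm.mul_left (hwE f hf')⟩
    have hm2 : orderOf (v * w) = 2 := orderOf_eq_prime
      (by rw [pow_two, show v * w * (v * w) = v * (w * v) * w by group, hwc.eq,
        show v * (v * w) * w = v * v * (w * w) by group, hvv, hww, mul_one])
      (fun e2 => hwv (by rw [eq_inv_of_mul_eq_one_right e2, inv_eq_of_mul_eq_one_right hvv]))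
    refine hpv (((h.fix_eq_of_mem hf IH ht hm hm2).2 p).1 ?_)
    rw [mul_smul, ← hyp, e1, ← hvp, ← mul_smul, hvv, one_smul]
  set H : Subgroup (cGrp D v) := (stabilizer G p).subgroupOf (cGrp D v) with hH
  have hHmem : ∀ {l : cGrp D v}, l ∈ H ↔ (l : G) • p = p := fun {l} => Subgroup.mem_subgroupOf
  have hHodd : Odd (Nat.card H) := by
    rw [← Nat.not_even_iff_odd, even_iff_two_dvd]
    intro h2
    obtain ⟨s, hs⟩ := exists_prime_orderOf_dvd_card' (G := H) 2 h2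
    rw [← Subgroup.orderOf_coe, ← Subgroup.orderOf_coe] at hs
    set s' : G := ((s : cGrp D v) : G) with hs'
    have hsp : s' • p = p := hHmem.1 s.2
    refine hpv (h.fix_unique s' (hQ.invMem _ (s : cGrp D v).2 hs) (v • p) p ?_ hsp)
    rw [← mul_smul, (commute_of_mem_cGrp (s : cGrp D v).2).eq, mul_smul, hsp]
  have hHbar : H.map π = ⊥ := by
    set i := π ⟨e, hEc e he⟩ with hi
    set j := π ⟨y, hEc y hyE⟩ with hj
    have hsqE : ∀ f (hf' : f ∈ E), π ⟨f, hEc f hf'⟩ * π ⟨f, hEc f hf'⟩ = 1 := fun f hf' => by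
      rw [← map_mul, show (⟨f, hEc f hf'⟩ : cGrp D v) * ⟨f, hEc f hf'⟩ = 1 from Subtype.ext (h.sq_E hl hf'),
        map_one]
    have hfree : ∀ f (hf' : f ∈ E), f ≠ 1 → ∀ x ∈ H.map π,
        π ⟨f, hEc f hf'⟩ * x * (π ⟨f, hEc f hf'⟩)⁻¹ = x → x = 1 := by
      rintro f hf' hf1 _ ⟨l, hlH, rfl⟩ hfix
      have hk : (l : G) * f * (l : G)⁻¹ * f⁻¹ ∈ kerGrp Ω D v := by
        refine mem_kerGrp.2 ⟨(l * ⟨f, hEc f hf'⟩ * l⁻¹ * ⟨f, hEc f hf'⟩⁻¹ : cGrp D v).2, ?_⟩
        show π (l * ⟨f, hEc f hf'⟩ * l⁻¹ * ⟨f, hEc f hf'⟩⁻¹) = 1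
        rw [map_mul, map_mul, map_mul, map_inv, map_inv, mul_inv_eq_one, mul_inv_eq_iff_eq_mul]
        exact (mul_inv_eq_iff_eq_mul.1 hfix).symm
      obtain ⟨z, hz, hzl⟩ := hQ.centInv l l.2 f hf' hf1 hk
      obtain ⟨hzc, hze⟩ := mem_kerGrp.1 hzl
      have hπl : π l = π ⟨z, hQ.le hz⟩ := by
        have h1 : π (⟨z, hQ.le hz⟩⁻¹ * l) = 1 := hze
        rw [map_mul, map_inv, inv_mul_eq_one] at h1
        exact h1.symm
      obtain ⟨n, hn⟩ := hQ.two ⟨z, hz⟩
      refine eq_one_of_sq_of_odd_card (K := H.map π) (CfsgLib.ZStar.odd_of_dvd (H.card_map_dvd π) hHodd)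
        (mem_map_of_mem π hlH) (n := n) ?_
      rw [hπl, ← map_pow, show (⟨z, hQ.le hz⟩ : cGrp D v) ^ 2 ^ n = 1 from
        Subtype.ext (congrArg Subtype.val hn : z ^ 2 ^ n = 1), map_one]
    refine eq_bot_of_three (i := i) (j := j) (hsqE e he) (hsqE y hyE) ?_ ?_ ?_ (hfree e he he1) (hfree y hyE hy1) ?_
    · rw [hi, hj, ← map_mul, ← map_mul,
        show (⟨e, hEc e he⟩ : cGrp D v) * ⟨y, hEc y hyE⟩ = ⟨y, hEc y hyE⟩ * ⟨e, hEc e he⟩ from
          Subtype.ext (hl.comm e he y hyE).eq]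
    · rintro _ ⟨l, hlH, rfl⟩
      refine ⟨⟨e, hEc e he⟩ * l * ⟨e, hEc e he⟩⁻¹, hHmem.2 ?_, by rw [map_mul, map_mul, map_inv]⟩
      show (e * (l : G) * e⁻¹) • p = p
      rw [inv_eq_of_mul_eq_one_right (h.sq_E hl he), mul_smul, mul_smul, ← hvp, ← mul_smul (l : G),
        (commute_of_mem_cGrp l.2).eq, mul_smul, hHmem.1 hlH, hvp, ← mul_smul, h.sq_E hl he, one_smul]
    · rintro _ ⟨l, hlH, rfl⟩
      refine ⟨⟨y, hEc y hyE⟩ * ⟨w * l * w⁻¹, conj_mem_cGrp h hwc l.2⟩ * ⟨y, hEc y hyE⟩⁻¹, hHmem.2 ?_, ?_⟩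
      · show (y * (w * (l : G) * w⁻¹) * y⁻¹) • p = p
        rw [inv_eq_of_mul_eq_one_right hyy, mul_smul, mul_smul, mul_smul, mul_smul, hyp,
          inv_smul_smul, hHmem.1 hlH, ← hyp, ← mul_smul, hyy, one_smul]
      · obtain ⟨hm, hm'⟩ := mem_kerGrp.1 (h.comm_mem_ker hwc hwF l.2)
        have h1 : π (⟨w * l * w⁻¹, conj_mem_cGrp h hwc l.2⟩ * l⁻¹) = 1 := hm'
        rw [map_mul, map_inv, mul_inv_eq_one] at h1
        rw [map_mul, map_mul, map_inv, h1]
    · intro x hx hfix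
      refine hfree (e * y) (mul_mem he hyE) (fun e1 => hye ?_) x hx ?_
      · rw [eq_inv_of_mul_eq_one_right e1, inv_eq_of_mul_eq_one_right (h.sq_E hl he)]
      · rwa [show π ⟨e * y, hEc _ (mul_mem he hyE)⟩ = i * j by rw [hi, hj, ← map_mul]; rfl]
  have hHker : H ≤ π.ker := fun l hlH => Subgroup.mem_bot.1 (hHbar ▸ mem_map_of_mem π hlH)
  -- counting
  have hkc : Nat.card (kerGrp Ω D v) = Nat.card π.ker :=
    Subgroup.card_map_of_injective (cGrp D v).subtype_injective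
  set O := MulAction.orbit (cGrp D v) p with hO
  have hOs : Nat.card O * Nat.card H = Nat.card (cGrp D v) := by
    rw [show H = stabilizer (cGrp D v) p from Subgroup.ext fun l => by rw [hHmem]; rfl,
      ← Subgroup.index_mul_card (stabilizer (cGrp D v) p), MulAction.index_stabilizer, hO, Nat.card_coe_set_eq]
  have hOsub : O ⊆ {c : Ω | v • c = c}ᶜ := by
    rintro _ ⟨l, rfl⟩ hc
    refine hpv (smul_left_cancel (l : G) ?_)
    rw [← mul_smul, (commute_of_mem_cGrp l.2).eq, mul_smul]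
    exact hc
  have hFcard : ({c : Ω | v • c = c} : Set Ω).ncard = q ^ 2 + 1 := by
    rw [← Nat.card_coe_set_eq]; exact hl.card_fix
  have hcompl : Nat.card O + (q ^ 2 + 1) ≤ Nat.card Ω := by
    rw [← hFcard, Nat.card_coe_set_eq, ← Set.ncard_add_ncard_compl {c : Ω | v • c = c}, add_comm]
    exact Nat.add_le_add_left (Set.ncard_le_ncard hOsub) _
  set N₀ := (q ^ 2 + 1) * q ^ 2 * (q - 1) with hN₀
  have hHle : Nat.card H ≤ Nat.card π.ker := Subgroup.card_le_of_le hHker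
  have hbig : N₀ * Nat.card π.ker ≤ Nat.card O * Nat.card H := by rw [hOs, ← hkc]; exact hQ.big
  have hON : N₀ ≤ Nat.card O :=
    Nat.le_of_mul_le_mul_right (hbig.trans (Nat.mul_le_mul_left _ hHle)) Nat.card_pos
  obtain ⟨t, htD, hta, htc⟩ := h.exists_swapper_centralised hl.ne _
    (IsPGroup.of_card (n := 1) (by rw [Nat.card_zpowers, ht.multi.1, pow_one]) : IsPGroup 2 (zpowers v))
    (fun x hx => ⟨zpowers_le.2 (show v ∈ stabilizer G a from hl.fix_a) hx,
      zpowers_le.2 (show v ∈ stabilizer G b from hl.fix_b) hx⟩)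
  obtain ⟨g, r, c, c', -, hrc, hg, -, hrg, -, hkC, hk, hn, -⟩ :=
    h.formula hf IH (h.cosetClass hf (h.localDichotomy hf IH)) v a b E q 2 ht t htD (htc v (mem_zpowers v)).symm hta
  have hg0 : 0 < g := hg.pos
  have hn' : g * (Nat.card Ω - 1) ≤ g * (q ^ 2 + N₀) := by
    rw [hn, show g * (q ^ 2 + N₀) = q ^ 2 * (g + (q ^ 2 + 1) * (q - 1) * g) by rw [hN₀]; ring]
    exact Nat.mul_le_mul_left _ (Nat.add_le_add_left (Nat.mul_le_mul_left _ hrg) _)
  have hnle := Nat.le_of_mul_le_mul_left hn' hg0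
  have hpos : 0 < Nat.card Ω := Nat.card_pos_iff.2 ⟨⟨a⟩, inferInstance⟩
  have hΩ : Nat.card Ω = q ^ 2 + 1 + N₀ := by omega
  have hOeq : Nat.card O = N₀ := by omega
  have hrgeq : r = g := by
    refine le_antisymm hrg ?_
    have h1 : g * (q ^ 2 + N₀) = q ^ 2 * (g + (q ^ 2 + 1) * (q - 1) * r) := by
      rw [← hn, hΩ]; congr 1; omega
    rw [show g * (q ^ 2 + N₀) = q ^ 2 * (g + (q ^ 2 + 1) * (q - 1) * g) by rw [hN₀]; ring] at h1
    have hqm : 0 < q - 1 := by omega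
    exact le_of_eq (Nat.eq_of_mul_eq_mul_left (by positivity)
      (Nat.add_left_cancel (Nat.eq_of_mul_eq_mul_left (by positivity) h1)))
  haveI : Nonempty O := ⟨⟨p, MulAction.mem_orbit_self p⟩⟩
  have hHK : H = π.ker := by
    refine Subgroup.eq_of_le_of_card_ge hHker (Nat.le_of_mul_le_mul_left ?_ (Nat.card_pos : 0 < Nat.card O))
    rw [hOeq] at hbig ⊢
    exact hbig
  have hOall : ∀ x, v • x ≠ x → x ∈ O := by
    have := Set.eq_of_subset_of_ncard_le hOsub (by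
      rw [Set.ncard_compl, hFcard, ← Nat.card_coe_set_eq, hOeq, hΩ]; omega)
    intro x hx
    rw [this]; exact hx
  have hker : ∀ k ∈ kerGrp Ω D v, k = 1 := by
    intro k hk'
    obtain ⟨hkc', hkπ⟩ := mem_kerGrp.1 hk'
    refine hf k fun x => ?_
    by_cases hx : v • x = x
    · exact (cProj_eq_one_iff (⟨k, hkc'⟩ : cGrp D v)).1 hkπ x hx
    obtain ⟨l, rfl⟩ := hOall x hx
    have h1 : l⁻¹ * ⟨k, hkc'⟩ * l ∈ H := hHK ▸ (show _ ∈ π.ker by
      rw [MonoidHom.mem_ker, map_mul, map_mul, show π ⟨k, hkc'⟩ = 1 from hkπ, mul_one, ← map_mul, inv_mul_cancel,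
        map_one])
    have h2 : ((l : G)⁻¹ * k * (l : G)) • p = p := hHmem.1 h1
    rw [mul_smul, mul_smul, inv_smul_eq_iff] at h2
    exact h2
  have hH1 : ∀ l : cGrp D v, (l : G) • p = p → l = 1 := fun l hl' =>
    Subtype.ext (hker l (mem_kerGrp.2 ⟨l.2, hHker (hHmem.2 hl')⟩))
  refine ⟨⟨hker, fun l hlc x hx hlx => ?_, fun x x' hx hx' => ?_, ?_⟩, hΩ⟩
  · obtain ⟨l', rfl⟩ := hOall x hx
    have h1 := hH1 (l'⁻¹ * ⟨l, hlc⟩ * l') (by
      show ((l' : G)⁻¹ * l * (l' : G)) • p = p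
      rw [mul_smul, mul_smul, inv_smul_eq_iff]
      exact hlx)
    have h2 : (⟨l, hlc⟩ : cGrp D v) = 1 := by
      rw [show (⟨l, hlc⟩ : cGrp D v) = l' * (l'⁻¹ * ⟨l, hlc⟩ * l') * l'⁻¹ by group, h1, mul_one, mul_inv_cancel]
    exact congrArg Subtype.val h2
  · obtain ⟨l, hl'⟩ := hOall x hx
    obtain ⟨l', hl''⟩ := hOall x' hx'
    refine ⟨(l' : G) * (l : G)⁻¹, mul_mem l'.2 (inv_mem l.2), ?_⟩
    rw [← hl', ← hl'']
    show ((l' : G) * (l : G)⁻¹) • ((l : G) • p) = (l' : G) • p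
    rw [← mul_smul, mul_assoc, inv_mul_cancel, mul_one]
  · -- the members at `a`
    obtain ⟨U, hB⟩ := h.bend hf IH ht.multi hl
    have hC : memsC D v a = (E : Set G) \ {1} := by
      ext d
      refine ⟨fun hd => ?_, fun hd => hl.mem d hd.1 hd.2⟩
      have hdc : d ∈ cGrp D v := mem_cGrp hd.1 hd.2.2
      have hJ : π ⟨d, hdc⟩ ∈ Cfsg.involutionsIn
          (stabilizer (cImage Ω D v) (fixPt hl.fix_a) : Set (cImage Ω D v)) :=
        ⟨Subtype.ext hd.2.1, (h.cImage_crit ht.multi).ne_one' (h.cProj_mem (d := ⟨d, hdc⟩) hd.1),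
          (h.cImage_crit ht.multi).sq (h.cProj_mem (d := ⟨d, hdc⟩) hd.1)⟩
      obtain ⟨f, hf', hf1, hfd⟩ := hB.J_onto _ hJ
      have h1 : d * f⁻¹ = 1 := hker _ (mem_kerGrp.2 ⟨mul_mem hdc (inv_mem (hEc f hf')), by
        show π (⟨d, hdc⟩ * ⟨f, hEc f hf'⟩⁻¹) = 1
        rw [map_mul, map_inv, mul_inv_eq_one]
        exact hfd.symm⟩)
      rw [mul_inv_eq_one.1 h1]
      exact ⟨hf', hf1⟩
    have hEcard : Nat.card ↥((E : Set G) \ {1}) = q - 1 := by
      have h7 : Nat.card (E : Set G) = q := hl.card_E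
      rw [Nat.card_coe_set_eq, Set.ncard_sdiff_singleton_of_mem (show (1 : G) ∈ (E : Set G) from one_mem E),
        ← Nat.card_coe_set_eq, h7]
    rw [hC, hEcard] at hkC
    have hc1 : c = 1 := by
      refine (Nat.eq_of_mul_eq_mul_left (show 0 < q - 1 by omega) ?_).symm
      rw [mul_one]; exact hkC
    obtain ⟨hr1, hc'1⟩ := mul_eq_one.1 (hrc.trans hc1)
    rw [hc1, ← hrgeq, hr1, hc'1, mul_one, mul_one] at hk
    intro d hd hda
    have hsub : (E : Set G) \ {1} ⊆ mems D a := fun f hf' =>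
      ⟨(hl.mem f hf'.1 hf'.2).1, (hl.mem f hf'.1 hf'.2).2.1⟩
    have heq := Set.eq_of_subset_of_ncard_le hsub (by
      rw [← Nat.card_coe_set_eq, ← Nat.card_coe_set_eq, hk, hEcard, mul_one])
    exact (heq.ge ⟨hd, hda⟩).1

end Crit

end CfsgLib.AschCrit
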