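import Cfsg.Agent.Lib.Invol.AschCrit.Pairing.Stab

/-!
Owner: helper16. Aschbacher's criterion, `NoPairing`: the translations act on `R` by `E`.

* `Ctx.torus`: a torus centralising `R`.
* `Ctx.shift_R`: a translation moves an involution of `R` by an element of `E`.
* `Ctx.shift_inj`, `Ctx.shift_surj`, `Ctx.shift_ne`: this is a fixed-point-free bijection.
* `Ctx.R_sq`: `R` is elementary.
-/

set_option autoImplicit false
set_option linter.unusedSectionVars false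
set_option linter.style.haveILetI false

namespace CfsgLib.AschCrit.Pairing

open Subgroup MulAction

universe u

variable {G : Type u} [Group G] {Ω : Type u} [MulAction G Ω]

theorem conj_eq_of_commute {g x : G} (hg : Commute g x) : g * x * g⁻¹ = x := by rw [hg.eq, mul_inv_cancel_right]

theorem commute_of_conj_eq {g x : G} (hg : g * x * g⁻¹ = x) : Commute g x := mul_inv_eq_iff_eq_mul.1 hg

theorem conj_shift {v k x : G} (hk : Commute k v) :
    v⁻¹ * (k * x * k⁻¹ * v * (k * x * k⁻¹)⁻¹) = k * (v⁻¹ * (x * v * x⁻¹)) * k⁻¹ := by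
  rw [show k * x * k⁻¹ * v * (k * x * k⁻¹)⁻¹ = k * x * (k⁻¹ * v * k) * x⁻¹ * k⁻¹ by group,
    show k⁻¹ * v * k = v by rw [mul_assoc, ← hk.eq, inv_mul_cancel_left],
    show k * (v⁻¹ * (x * v * x⁻¹)) * k⁻¹ = k * v⁻¹ * (x * v * x⁻¹) * k⁻¹ by group, hk.inv_right.eq]
  group

namespace Ctx

variable [Finite G] {D : Set G} {v : G} {a b : Ω} {E : Subgroup G} {q : ℕ} {Q P R : Subgroup G}
  (C : Ctx D v a b E q Q P R)
include C

theorem P_commute_E {x : G} (hx : x ∈ P) {e : G} (he : e ∈ E) : Commute x e := (C.data.sub x hx).2.1 e he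

theorem P_shift {x : G} (hx : x ∈ P) : ∃ e ∈ E, x * v * x⁻¹ = v * e :=
  ⟨_, (C.data.sub x hx).2.2, by rw [mul_inv_cancel_left]⟩

theorem R_inter_E {x : G} (hxR : x ∈ R) (hxE : x ∈ E) : x = 1 := by
  by_contra h1
  exact C.ldata.ne (C.crit.fix_unique x (C.ldata.mem x hxE h1).1 a b (C.ldata.mem x hxE h1).2.1
    (C.data.R_fixes hxR C.ldata.fix_b))

/-- The involutions of `P` lie in `R E`. -/
theorem invol_P {x : G} (hx : x ∈ P) (hxx : x * x = 1) : ∃ r ∈ R, ∃ f ∈ E, r * r = 1 ∧ x = r * f := by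
  obtain ⟨y, hy, r, hr, rfl⟩ := C.data.decomp x hx (C.data.inv x hx hxx)
  obtain ⟨hsq, hyy, hrr⟩ := C.data.sq_mul C.ker hy hr
  obtain ⟨h1, h2⟩ := C.data.eq_of_mul_eq C.ldata C.ker hyy (one_mem _) hrr (one_mem _)
    (by rw [← hsq, hxx, mul_one])
  exact ⟨r, hr, y, C.ker.invol y hy h1, h2, (C.data.comm y hy r hr).eq⟩

/-- The involutions of `R` are central in it. -/
theorem R_commute {r z : G} (hr : r ∈ R) (hr2 : orderOf r = 2) (hz : z ∈ R) : Commute z r := by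
  obtain ⟨e, he, -, p, hp, hpa, hvp⟩ := C.exists_line_point
  obtain ⟨f, hf, -, hrp⟩ := C.exists_point hr hr2 he hp hpa hvp
  obtain ⟨y, hy, hyp⟩ := C.crit.exists_shift C.ldata C.trans C.ker (C.data.R_fix hz) he hp hpa
  have h1 : (z * r) • p = (r * z) • p := by
    calc (z * r) • p = z • (f • p) := by rw [mul_smul, hrp]
      _ = f • (z • p) := C.crit.fixKer_comm_line C.ldata C.trans C.ker (C.data.R_fix hz) he (C.ker.E_le hf) hp
      _ = (f * y) • p := by rw [← hyp, mul_smul]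
      _ = y • (r • p) := by rw [← (C.ker.cent y hy f hf).eq, mul_smul, hrp]
      _ = r • (y • p) := (C.crit.fixKer_comm_line C.ldata C.trans C.ker (C.data.R_fix hr) he hy hp).symm
      _ = (r * z) • p := by rw [hyp, mul_smul]
  have h2 := C.eq_one_of_fix_point (g := (r * z)⁻¹ * (z * r)) (fun x hx => by
    rw [mul_smul, mul_smul, inv_smul_eq_iff, mul_smul, C.data.R_fixes hr hx, C.data.R_fixes hz hx,
      C.data.R_fixes hr hx]) hvp (by rw [mul_smul, h1, inv_smul_smul])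
  exact (inv_mul_eq_one.1 h2).symm

/-- A torus centralising `R`. -/
theorem torus : ∃ k : G, Odd (orderOf k) ∧ k • a = a ∧ k • b = b ∧ Commute k v ∧ (∀ r ∈ R, Commute k r) ∧
    (∀ e ∈ E, k * e * k⁻¹ ∈ E) ∧
    ∀ e ∈ E, ∀ f ∈ E, e ≠ 1 → f ≠ 1 → ∃ j : ℕ, k ^ j * e * (k ^ j)⁻¹ = f := by
  obtain ⟨k, h1, h2, h3, h4, h5, h6, h7⟩ := C.crit.torusCent C.faithful C.below v a b E q 2 C.top R
    (C.data.two.to_le C.data.R_le) fun g hg => ⟨C.data.R_fixes hg C.ldata.fix_a, C.data.R_fixes hg C.ldata.fix_b,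
      C.data.R_commute_u hg, fun e he => by rw [conj_eq_of_commute (C.data.R_commute_E hg he)]; exact he⟩
  exact ⟨k, h1, h2, h3, h4, h5, h6, fun e he f hf he1 hf1 =>
    h7 e he f hf he1 hf1 fun g hg => ⟨C.data.R_commute_E hg he, C.data.R_commute_E hg hf⟩⟩

theorem torus_pow {k : G} (hk : ∀ e ∈ E, k * e * k⁻¹ ∈ E) (j : ℕ) {e : G} (he : e ∈ E) :
    k ^ j * e * (k ^ j)⁻¹ ∈ E ∧ ∃ e' ∈ E, k ^ j * e' * (k ^ j)⁻¹ = e := by
  induction j generalizing e with
  | zero => exact ⟨by simpa using he, e, he, by simp⟩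
  | succ j ih =>
    refine ⟨?_, ?_⟩
    · rw [pow_succ', show k * k ^ j * e * (k * k ^ j)⁻¹ = k * (k ^ j * e * (k ^ j)⁻¹) * k⁻¹ by group]
      exact hk _ (ih he).1
    · obtain ⟨⟨f, hf⟩, hf'⟩ := Finite.surjective_of_injective
        (f := fun f : E => (⟨k * f * k⁻¹, hk f f.2⟩ : E))
        (fun f f' e' => Subtype.ext ((MulAut.conj k).injective (congrArg Subtype.val e' :))) ⟨e, he⟩
      obtain ⟨e', he', hee⟩ := (ih hf).2
      refine ⟨e', he', ?_⟩
      rw [pow_succ', show k * k ^ j * e' * (k * k ^ j)⁻¹ = k * (k ^ j * e' * (k ^ j)⁻¹) * k⁻¹ by group, hee]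
      exact congrArg Subtype.val hf'

/-- The torus normalises `P`. -/
theorem torus_conj {k : G} (hka : k • a = a) (hkv : Commute k v) (hkE : ∀ e ∈ E, k * e * k⁻¹ ∈ E) (j : ℕ) {x : G}
    (hx : x ∈ P) : k ^ j * x * (k ^ j)⁻¹ ∈ P := by
  obtain ⟨hxa, hxE, hxv⟩ := C.data.sub x hx
  have hka' : (k ^ j) • a = a := pow_mem (show k ∈ stabilizer G a from hka) j
  refine C.mem_P ⟨?_, fun e he => ?_, ?_⟩
  · rw [mul_smul, mul_smul, inv_smul_eq_iff.2 hka'.symm, hxa, hka']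
  · obtain ⟨e', he', rfl⟩ := (C.torus_pow hkE j he).2
    exact (Commute.conj_iff _).2 (hxE e' he')
  · rw [conj_shift (hkv.pow_left j)]
    exact (C.torus_pow hkE j hxv).1

theorem cent_S {x r : G} (hx : x ∈ P) (hxv : Commute x v) (hr : r ∈ R) (hr2 : orderOf r = 2) : Commute x r := by
  obtain ⟨y, hy, z, hz, rfl⟩ := C.data.decomp x hx hxv
  exact (C.data.comm y hy r hr).mul_left (C.R_commute hr hr2 hz)

/-- A translation moves an involution of `R` by an element of `E`. -/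
theorem shift_R {r : G} (hr : r ∈ R) (hr2 : orderOf r = 2) {x : G} (hx : x ∈ P) :
    ∃ f ∈ E, x * r * x⁻¹ = r * f := by
  classical
  have hrr : r * r = 1 := by rw [← pow_two, ← hr2, pow_orderOf_eq_one]
  obtain ⟨e, he, hxe⟩ := C.P_shift hx
  rcases eq_or_ne e 1 with rfl | he1
  · rw [mul_one] at hxe
    exact ⟨1, one_mem _, by rw [mul_one, conj_eq_of_commute (C.cent_S hx (commute_of_conj_eq hxe) hr hr2)]⟩
  obtain ⟨s, hs, f, hf, hss, hxs⟩ := C.invol_P (mul_mem (mul_mem hx (C.data.R_le hr)) (inv_mem hx))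
    (by rw [show x * r * x⁻¹ * (x * r * x⁻¹) = x * (r * r) * x⁻¹ by group, hrr, mul_one, mul_inv_cancel])
  refine ⟨f, hf, ?_⟩
  obtain ⟨k, -, hka, -, hkv, hkR, hkE, hktr⟩ := C.torus
  obtain ⟨e', he', he'1, hee⟩ : ∃ e' ∈ E, e' ≠ 1 ∧ e * e' ≠ 1 := by
    by_contra hc
    push Not at hc
    have hsub : (E : Set G) ⊆ {1, e⁻¹} := fun z hz => by
      rcases eq_or_ne z 1 with h1 | h1
      · exact Or.inl h1
      · exact Or.inr (eq_inv_of_mul_eq_one_right (hc z hz h1))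
    have h5 := (Set.ncard_le_ncard hsub).trans (Set.ncard_insert_le _ _)
    rw [Set.ncard_singleton, ← Nat.card_coe_set_eq, show Nat.card (E : Set G) = q from C.ldata.card_E] at h5
    have := Crit.four_le_q C.ldata
    omega
  have hconj : ∀ j : ℕ, ∀ e₁, k ^ j * e * (k ^ j)⁻¹ = e₁ → (k ^ j * x * (k ^ j)⁻¹) * v * (k ^ j * x * (k ^ j)⁻¹)⁻¹ =
      v * e₁ ∧ (k ^ j * x * (k ^ j)⁻¹) * r * (k ^ j * x * (k ^ j)⁻¹)⁻¹ = s * (k ^ j * f * (k ^ j)⁻¹) := by
    intro j e₁ hj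
    have hv' := conj_eq_of_commute (hkv.pow_left j)
    have hr' := conj_eq_of_commute ((hkR r hr).pow_left j)
    have hs' := conj_eq_of_commute ((hkR s hs).pow_left j)
    refine ⟨?_, ?_⟩
    · calc _ = k ^ j * (x * ((k ^ j)⁻¹ * v * k ^ j) * x⁻¹) * (k ^ j)⁻¹ := by group
        _ = k ^ j * (x * v * x⁻¹) * (k ^ j)⁻¹ := by
            rw [show (k ^ j)⁻¹ * v * k ^ j = v by rw [mul_assoc, ← (hkv.pow_left j).eq, inv_mul_cancel_left]]
        _ = (k ^ j * v * (k ^ j)⁻¹) * (k ^ j * e * (k ^ j)⁻¹) := by rw [hxe]; group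
        _ = v * e₁ := by rw [hv', hj]
    · calc _ = k ^ j * (x * ((k ^ j)⁻¹ * r * k ^ j) * x⁻¹) * (k ^ j)⁻¹ := by group
        _ = k ^ j * (x * r * x⁻¹) * (k ^ j)⁻¹ := by
            rw [show (k ^ j)⁻¹ * r * k ^ j = r by rw [mul_assoc, ← ((hkR r hr).pow_left j).eq, inv_mul_cancel_left]]
        _ = (k ^ j * s * (k ^ j)⁻¹) * (k ^ j * f * (k ^ j)⁻¹) := by rw [hxs]; group
        _ = _ := by rw [hs']
  obtain ⟨j, hj⟩ := hktr e he e' he' he1 he'1
  obtain ⟨i, hi⟩ := hktr e he (e * e') (mul_mem he he') he1 hee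
  obtain ⟨hv₁, hr₁⟩ := hconj j e' hj
  obtain ⟨hv₂, hr₂⟩ := hconj i (e * e') hi
  set x₁ := k ^ j * x * (k ^ j)⁻¹
  set x₃ := k ^ i * x * (k ^ i)⁻¹
  have hx₁ : x₁ ∈ P := C.torus_conj hka hkv hkE j hx
  have hx₃ : x₃ ∈ P := C.torus_conj hka hkv hkE i hx
  set f₁ := k ^ j * f * (k ^ j)⁻¹
  set f₃ := k ^ i * f * (k ^ i)⁻¹
  have hf₁ : f₁ ∈ E := (C.torus_pow hkE j hf).1
  have hf₃ : f₃ ∈ E := (C.torus_pow hkE i hf).1
  have hdiff : Commute (x₃⁻¹ * (x * x₁)) r := by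
    refine C.cent_S (mul_mem (inv_mem hx₃) (mul_mem hx hx₁)) (commute_of_conj_eq ?_) hr hr2
    calc x₃⁻¹ * (x * x₁) * v * (x₃⁻¹ * (x * x₁))⁻¹ = x₃⁻¹ * (x * (x₁ * v * x₁⁻¹) * x⁻¹) * x₃ := by group
      _ = x₃⁻¹ * ((x * v * x⁻¹) * (x * e' * x⁻¹)) * x₃ := by rw [hv₁]; group
      _ = x₃⁻¹ * (v * (e * e')) * x₃ := by rw [hxe, conj_eq_of_commute (C.P_commute_E hx he')]; group
      _ = v := by rw [← hv₂]; group
  have h4 : x * s * x⁻¹ = s * f₃ * f₁⁻¹ := by
    have h5 : x * (x₁ * r * x₁⁻¹) * x⁻¹ = x₃ * r * x₃⁻¹ := by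
      calc x * (x₁ * r * x₁⁻¹) * x⁻¹ = x₃ * ((x₃⁻¹ * (x * x₁)) * r * (x₃⁻¹ * (x * x₁))⁻¹) * x₃⁻¹ := by group
        _ = _ := by rw [conj_eq_of_commute hdiff]
    rw [hr₁, hr₂, show x * (s * f₁) * x⁻¹ = (x * s * x⁻¹) * (x * f₁ * x⁻¹) by group,
      conj_eq_of_commute (C.P_commute_E hx hf₁)] at h5
    rw [← h5, mul_inv_cancel_right]
  have hfin : r * s = f * (f₃ * f₁⁻¹) := by
    have hfm : f * (f₃ * f₁⁻¹) ∈ E := mul_mem hf (mul_mem hf₃ (inv_mem hf₁))
    have h6 : x * (r * s) * x⁻¹ = f * (f₃ * f₁⁻¹) := by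
      rw [show x * (r * s) * x⁻¹ = (x * r * x⁻¹) * (x * s * x⁻¹) by group, hxs, h4,
        (C.data.R_commute_E hs hf).eq, show f * s * (s * f₃ * f₁⁻¹) = f * (s * s) * (f₃ * f₁⁻¹) by group, hss,
        mul_one]
    rw [← conj_eq_of_commute (C.P_commute_E hx hfm)] at h6
    exact mul_left_cancel (mul_right_cancel h6)
  have h7 := C.R_inter_E (mul_mem hr hs) (hfin ▸ mul_mem hf (mul_mem hf₃ (inv_mem hf₁)))
  rw [hxs, eq_inv_of_mul_eq_one_left h7, inv_eq_of_mul_eq_one_right hss]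

/-- A translation centralising an involution of `R` centralises `u`. -/
theorem shift_inj {r : G} (hr : r ∈ R) (hr2 : orderOf r = 2) {x : G} (hx : x ∈ P) (hxr : Commute x r) :
    Commute x v := by
  obtain ⟨e, he, hxe⟩ := C.P_shift hx
  have hF : PresF Ω v x := fun y => by
    rw [← (C.invol_R hr hr2).2 y, ← (C.invol_R hr hr2).2 (x • y)]
    exact presF_of_commute hxr y
  have hb : (v * e) • b = b := by
    rw [← hxe, mul_smul, mul_smul]
    exact smul_eq_iff_eq_inv_smul _ |>.2 ((hF.inv b).1 C.ldata.fix_b)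
  rcases eq_or_ne e 1 with rfl | he1
  · exact commute_of_conj_eq (by rw [hxe, mul_one])
  · exact absurd (C.crit.line_inter C.ldata he he1 hb C.ldata.fix_b) C.ldata.ne.symm

/-- The translations move an involution of `R` by every element of `E`. -/
theorem shift_surj {r : G} (hr : r ∈ R) (hr2 : orderOf r = 2) {f : G} (hf : f ∈ E) :
    ∃ x ∈ P, x * r * x⁻¹ = r * f := by
  choose x hx hxe using fun e : E => C.data.shift e e.2
  choose φ hφ hxφ using fun e : E => C.shift_R hr hr2 (hx e)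
  have hinj : Function.Injective fun e : E => (⟨φ e, hφ e⟩ : E) := fun e e' h1 => by
    have h2 : x e * r * (x e)⁻¹ = x e' * r * (x e')⁻¹ := by
      rw [hxφ, hxφ, show φ e = φ e' from congrArg Subtype.val h1]
    have h3 : Commute ((x e')⁻¹ * x e) r := commute_of_conj_eq (by
      calc (x e')⁻¹ * x e * r * ((x e')⁻¹ * x e)⁻¹ = (x e')⁻¹ * (x e * r * (x e)⁻¹) * x e' := by group
        _ = r := by rw [h2]; group)
    have h4 := conj_eq_of_commute (C.shift_inj hr hr2 (mul_mem (inv_mem (hx e')) (hx e)) h3)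
    have h5 : x e * v * (x e)⁻¹ = x e' * v * (x e')⁻¹ := by
      calc x e * v * (x e)⁻¹ = x e' * ((x e')⁻¹ * x e * v * ((x e')⁻¹ * x e)⁻¹) * (x e')⁻¹ := by group
        _ = _ := by rw [h4]
    rw [hxe, hxe] at h5
    exact Subtype.ext (mul_left_cancel h5)
  obtain ⟨e, he⟩ := Finite.surjective_of_injective hinj ⟨f, hf⟩
  exact ⟨x e, hx e, by rw [hxφ, show φ e = f from congrArg Subtype.val he]⟩

/-- A translation moves no other involution of `R` as it moves `u`. -/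
theorem shift_ne {r : G} (hr : r ∈ R) (hr2 : orderOf r = 2) (hrv : r ≠ v) {x e : G} (hx : x ∈ P)
    (hxe : x * v * x⁻¹ = v * e) (hxr : x * r * x⁻¹ = r * e) (he : e ∈ E) : e = 1 := by
  have hvv : v * v = 1 := by rw [← pow_two, ← C.top.multi.1, pow_orderOf_eq_one]
  have hrr : r * r = 1 := by rw [← pow_two, ← hr2, pow_orderOf_eq_one]
  have hm := mul_mem C.data.u_mem hr
  have hm2 : orderOf (v * r) = 2 := orderOf_eq_prime
    (by rw [pow_two, show v * r * (v * r) = v * (r * v) * r by group, (C.data.R_commute_u hr).eq,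
      show v * (v * r) * r = v * v * (r * r) by group, hvv, hrr, mul_one])
    (fun e2 => hrv (by rw [eq_inv_of_mul_eq_one_right e2, inv_eq_of_mul_eq_one_right hvv]))
  have h1 : Commute x (v * r) := commute_of_conj_eq (by
    rw [show x * (v * r) * x⁻¹ = (x * v * x⁻¹) * (x * r * x⁻¹) by group, hxe, hxr,
      show v * e * (r * e) = v * (e * r) * e by group, ← (C.data.R_commute_E hr he).eq,
      show v * (r * e) * e = v * r * (e * e) by group, C.crit.sq_E C.ldata he, mul_one])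
  have h2 := conj_eq_of_commute (C.shift_inj hm hm2 hx h1)
  rw [hxe] at h2
  simpa using h2

/-- `R` is elementary. -/
theorem R_sq {z : G} (hz : z ∈ R) : z * z = 1 := by
  by_contra h1
  obtain ⟨n, hn⟩ := C.data.two ⟨z, C.data.R_le hz⟩
  have hz1 : z ≠ 1 := fun e => h1 (by rw [e, one_mul])
  obtain ⟨m, hm⟩ := exists_sq_involution hz1 (congrArg Subtype.val hn : z ^ 2 ^ n = 1)
  rcases m with _ | m
  · rw [pow_zero, pow_one] at hm
    exact h1 (by rw [← pow_two, ← hm, pow_orderOf_eq_one])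
  · refine C.data.no_sqrt C.crit C.ldata C.ker (pow_mem hz (2 ^ (m + 1))) (fun e he =>
      C.shift_surj (pow_mem hz _) hm he) (z := z ^ 2 ^ m) (pow_mem hz _) ?_
    rw [← pow_add, ← two_mul, ← pow_succ']

end Ctx

end CfsgLib.AschCrit.Pairing
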