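import Cfsg.Agent.Lib.Invol.AschCrit.Pairing.Structure
import Cfsg.Agent.Lib.Invol.AschCrit.Pairing.Regular

/-!
Owner: helper16. Aschbacher's criterion, `NoPairing`: stabilisers of `Fix u` in the centraliser of `E`.

* `Ctx`: the standing situation.
* `Ctx.mem_R`: what fixes `Fix u` pointwise and centralises `E` and an involution of `R` is in `R`.
* `Ctx.stab_fix`: what stabilises `Fix u`, fixes `b` and centralises `E` fixes `Fix u` pointwise.
* `Ctx.stab_mem`, `Ctx.mem_P`: the centralisers of the involutions of `R` and the translations lie in `P`.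
-/

set_option autoImplicit false
set_option linter.unusedSectionVars false
set_option linter.style.haveILetI false

namespace CfsgLib.AschCrit.Pairing

open Subgroup MulAction

universe u

variable {G : Type u} [Group G] {Ω : Type u} [MulAction G Ω]

/-- The standing situation of the proof of `NoPairing`. -/
structure Ctx (D : Set G) (u : G) (a b : Ω) (E : Subgroup G) (q : ℕ) (Q P R : Subgroup G) : Prop where
  crit : Crit Ω D
  faithful : Faithful G Ω
  below : Below.{u, u} (Nat.card G)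
  frame : Frame D u a b E q 2
  trans : HasTrans u a E
  ker : SzKer D u a b E q Q
  data : PData D u a b E Q P R
  reg : Reg D u a E
  card : Nat.card Ω = q ^ 2 + 1 + (q ^ 2 + 1) * q ^ 2 * (q - 1)

/-- `g` stabilises the fixed points of `u`. -/
def PresF (Ω : Type u) [MulAction G Ω] (u g : G) : Prop := ∀ x : Ω, u • x = x ↔ u • (g • x) = g • x

theorem PresF.inv {v g : G} (hg : PresF Ω v g) : PresF Ω v g⁻¹ := fun x => by
  have := hg (g⁻¹ • x)
  rw [smul_inv_smul] at this
  exact this.symm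

theorem PresF.mul {v g g' : G} (hg : PresF Ω v g) (hg' : PresF Ω v g') : PresF Ω v (g * g') := fun x => by
  rw [mul_smul]; exact (hg' x).trans (hg _)

theorem presF_of_commute {v g : G} (hg : Commute g v) : PresF Ω v g := fun x => by
  rw [← mul_smul v, ← hg.eq, mul_smul]
  exact ⟨fun e => by rw [e], fun e => smul_left_cancel g e⟩

theorem presF_of_fix {v g : G} (hg : ∀ x : Ω, v • x = x → g • x = x) : PresF Ω v g := fun x => by
  refine ⟨fun e => by rw [hg x e, e], fun e => ?_⟩
  have h1 := hg _ e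
  rw [smul_left_cancel_iff] at h1
  rwa [h1] at e

namespace Ctx

variable [Finite G] {D : Set G} {v : G} {a b : Ω} {E : Subgroup G} {q : ℕ} {Q P R : Subgroup G}
  (C : Ctx D v a b E q Q P R)
include C

theorem ldata : LData D v a b E q 2 := C.frame.data

theorem top : TopFrame D v a b E q 2 := C.frame.toTopFrame

theorem fixes_a {g : G} (hg : ∀ e ∈ E, Commute g e) : g • a = a := by
  obtain ⟨e, he, he1⟩ : ∃ e ∈ E, e ≠ (1 : G) := by
    by_contra hc
    push Not at hc
    have h4 := Crit.four_le_q C.ldata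
    rw [← C.ldata.card_E, (Subgroup.eq_bot_iff_forall E).2 hc, Subgroup.card_bot] at h4
    omega
  exact C.crit.fix_of_commute' (C.ldata.mem e he he1).1 (hg e he) (C.ldata.mem e he he1).2.1

theorem exists_moving {x : Ω} (hx : v • x = x) : ∃ l ∈ cGrp D v, l • a = x := by
  rcases eq_or_ne x a with rfl | hxa
  · exact ⟨1, one_mem _, one_smul _ _⟩
  obtain ⟨t, ht, hta, htc⟩ := C.crit.exists_swapper_centralised C.ldata.ne _
    (IsPGroup.of_card (n := 1) (by rw [Nat.card_zpowers, C.top.multi.1, pow_one]) : IsPGroup 2 (zpowers v))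
    (fun y hy => ⟨zpowers_le.2 (show v ∈ stabilizer G a from C.ldata.fix_a) hy,
      zpowers_le.2 (show v ∈ stabilizer G b from C.ldata.fix_b) hy⟩)
  obtain ⟨y, hy, hyb⟩ := C.ker.trans x hx hxa
  exact ⟨y * t, mul_mem (C.ker.le hy) (mem_cGrp ht (htc v (mem_zpowers v)).symm), by rw [mul_smul, hta, hyb]⟩

/-- The members at the fixed points centralise `u`. -/
theorem mem_commute {d : G} (hd : d ∈ D) {x : Ω} (hx : v • x = x) (hdx : d • x = x) : Commute d v := by
  obtain ⟨l, hl, rfl⟩ := C.exists_moving hx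
  have hlv := commute_of_mem_cGrp hl
  have hd' : l⁻¹ * d * l ∈ E := C.reg.mems _ (C.crit.conjBack hd l) (by
    rw [mul_smul, mul_smul, hdx, inv_smul_smul])
  have hc : Commute (l⁻¹ * d * l) v := by
    rcases eq_or_ne (l⁻¹ * d * l) 1 with h1 | h1
    · rw [h1]; exact Commute.one_left _
    · exact (C.ldata.mem _ hd' h1).2.2
  have := (hlv.mul_left hc).mul_left hlv.inv_left
  rwa [show l * (l⁻¹ * d * l) * l⁻¹ = d by group] at this

theorem conj_cGrp {g : G} (hg : PresF Ω v g) {l : G} (hl : l ∈ cGrp D v) : g * l * g⁻¹ ∈ cGrp D v := by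
  have hle : cGrp D v ≤ (cGrp D v).comap (MulAut.conj g).toMonoidHom := (Subgroup.closure_le _).2 fun d hd => by
    refine mem_cGrp (C.crit.conj d hd.1 g) ?_
    obtain ⟨x, hx⟩ := C.crit.fix_exists d hd.1
    have hvx : v • x = x := C.crit.fix_unique d hd.1 _ _ (by rw [← mul_smul, hd.2.eq, mul_smul, hx]) hx
    exact C.mem_commute (C.crit.conj d hd.1 g) ((hg x).1 hvx)
      (show (g * d * g⁻¹) • (g • x) = g • x by rw [mul_smul, mul_smul, inv_smul_smul, hx])
  exact hle hl

/-- The pointwise stabiliser centralises `<D cap C(u)>`. -/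
theorem commute_of_fix {g : G} (hg : ∀ x : Ω, v • x = x → g • x = x) {l : G} (hl : l ∈ cGrp D v) :
    Commute g l := by
  have hmem : g * l * g⁻¹ * l⁻¹ ∈ cGrp D v := mul_mem (C.conj_cGrp (presF_of_fix hg) hl) (inv_mem hl)
  have h1 := C.reg.ker _ (mem_kerGrp.2 ⟨hmem, (cProj_eq_one_iff _).2 fun p hp => by
    show (g * l * g⁻¹ * l⁻¹) • p = p
    have hlp : v • (l⁻¹ • p) = l⁻¹ • p := by
      rw [← mul_smul, ← (commute_of_mem_cGrp (inv_mem hl)).eq, mul_smul, hp]
    rw [mul_smul, mul_smul, mul_smul, inv_smul_eq_iff.2 (hg _ hlp).symm, smul_inv_smul, hg p hp]⟩)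
  exact mul_inv_eq_iff_eq_mul.1 (mul_inv_eq_one.1 h1)

theorem eq_one_of_fix_point {g : G} (hg : ∀ x : Ω, v • x = x → g • x = x) {p : Ω} (hp : v • p ≠ p)
    (hgp : g • p = p) : g = 1 := by
  refine C.faithful g fun x => ?_
  by_cases hx : v • x = x
  · exact hg x hx
  obtain ⟨l, hl, rfl⟩ := C.reg.trans p x hp hx
  rw [← mul_smul, (C.commute_of_fix hg hl).eq, mul_smul, hgp]

theorem invol_R {r : G} (hr : r ∈ R) (hr2 : orderOf r = 2) :
    IsMulti Ω r ∧ ∀ x : Ω, r • x = x ↔ v • x = x :=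
  C.crit.fix_eq_of_mem C.faithful C.below C.top (C.data.R_fix hr) hr2

/-- An involution of `R` acts at a moved point of a translate as an element of `E`. -/
theorem exists_point {r : G} (hr : r ∈ R) (hr2 : orderOf r = 2) {e : G} (he : e ∈ E) {p : Ω}
    (hp : (v * e) • p = p) (hpa : p ≠ a) (hvp : v • p ≠ p) : ∃ f ∈ E, f ≠ 1 ∧ r • p = f • p := by
  have hrr : r * r = 1 := by rw [← pow_two, ← hr2, pow_orderOf_eq_one]
  obtain ⟨y, hy, hyp⟩ := C.crit.exists_shift C.ldata C.trans C.ker (C.data.R_fix hr) he hp hpa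
  have hyy : y * y = 1 := C.crit.line_free C.ldata C.ker (mul_mem hy hy) hpa (by
    rw [mul_smul, hyp, ← C.crit.fixKer_comm_line C.ldata C.trans C.ker (C.data.R_fix hr) he hy hp, hyp,
      ← mul_smul, hrr, one_smul])
  exact ⟨y, C.ker.invol y hy hyy, fun e1 => hvp (((C.invol_R hr hr2).2 p).1 (by rw [← hyp, e1, one_smul])),
    hyp.symm⟩

theorem exists_line_point : ∃ e ∈ E, e ≠ 1 ∧ ∃ p : Ω, (v * e) • p = p ∧ p ≠ a ∧ v • p ≠ p := by
  obtain ⟨e, he, he1⟩ : ∃ e ∈ E, e ≠ (1 : G) := by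
    by_contra hc
    push Not at hc
    have h4 := Crit.four_le_q C.ldata
    rw [← C.ldata.card_E, (Subgroup.eq_bot_iff_forall E).2 hc, Subgroup.card_bot] at h4
    omega
  obtain ⟨p, hp, hpa⟩ := C.crit.line_exists C.ldata C.trans he
  exact ⟨e, he, he1, p, hp, hpa, fun hvp => hpa (C.crit.line_inter C.ldata he he1 hp hvp)⟩

/-- The pointwise stabiliser in `C(E)` of a point of `R`'s involutions is `R`. -/
theorem mem_R {g r : G} (hgF : ∀ x : Ω, v • x = x → g • x = x) (hgE : ∀ e ∈ E, Commute g e) (hr : r ∈ R)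
    (hr2 : orderOf r = 2) (hgr : Commute g r) : g ∈ R := by
  classical
  haveI := Fact.mk Nat.prime_two
  haveI := C.crit.finite_points
  obtain ⟨e, he, he1, p, hp, hpa, hvp⟩ := C.exists_line_point
  have hvv : v * v = 1 := by rw [← pow_two, ← C.top.multi.1, pow_orderOf_eq_one]
  -- for every element commuting with an involution of `R`
  have key : ∀ {g r : G}, (∀ x : Ω, v • x = x → g • x = x) → r ∈ R → orderOf r = 2 →
      Commute g r → (∃ n : ℕ, g ^ 2 ^ n = 1) ∧ Commute g v := by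
    intro g r hgF hr hr2 hgr
    obtain ⟨f, hf, hf1, hrp⟩ := C.exists_point hr hr2 he hp hpa hvp
    have hgp : v • (g • p) ≠ g • p := fun e1 => hvp (by
      have := hgF _ e1
      rw [smul_left_cancel_iff] at this
      rwa [this] at e1)
    obtain ⟨l, hl, hlp⟩ := C.reg.trans p (g • p) hvp hgp
    have hgl : ∀ {x : G}, x ∈ cGrp D v → Commute g x := fun hx => C.commute_of_fix hgF hx
    have hfc : f ∈ cGrp D v := C.ker.le (C.ker.E_le hf)
    have hlf : Commute l f := by
      have h1 : (l * f) • p = (f * l) • p := by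
        calc (l * f) • p = l • (r • p) := by rw [mul_smul, hrp]
          _ = r • (g • p) := by
              rw [← hlp, ← mul_smul, ← mul_smul r, ← (C.commute_of_fix (fun x => C.data.R_fixes hr) hl).eq]
          _ = g • (f • p) := by rw [← mul_smul, ← hgr.eq, mul_smul, hrp]
          _ = (f * l) • p := by rw [← mul_smul, (hgl hfc).eq, mul_smul, ← hlp, mul_smul]
      have h2 := C.reg.free _ (mul_mem (inv_mem (mul_mem hfc hl)) (mul_mem hl hfc)) p hvp
        (by rw [mul_smul, h1, inv_smul_smul])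
      exact (inv_mul_eq_one.1 h2).symm
    obtain ⟨y, hy, hyl⟩ := C.ker.centInv l hl f hf hf1 (by
      rw [hlf.eq, mul_inv_cancel_right, mul_inv_cancel]; exact one_mem _)
    have hly : l = y := (inv_mul_eq_one.1 (C.reg.ker _ hyl)).symm
    subst hly
    have hpow : ∀ n : ℕ, g ^ n • p = l ^ n • p := by
      intro n
      induction n with
      | zero => simp
      | succ n ih =>
        rw [pow_succ', mul_smul, ih, ← mul_smul, (hgl (pow_mem hl n)).eq, mul_smul, ← hlp, ← mul_smul, ← pow_succ]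
    obtain ⟨n, hn⟩ := C.ker.two ⟨l, hy⟩
    refine ⟨⟨n, C.eq_one_of_fix_point (fun x hx => (pow_mem (show g ∈ stabilizer G x from hgF x hx) _ :
      g ^ 2 ^ n ∈ stabilizer G x)) hvp (by
        rw [hpow, show l ^ 2 ^ n = 1 from congrArg Subtype.val hn, one_smul])⟩, ?_⟩
    have hvp' : v • p = e • p := by
      have e1 : v • (e • p) = p := by rw [← mul_smul]; exact hp
      calc v • p = v • (v • (e • p)) := by rw [e1]
        _ = e • p := by rw [← mul_smul, hvv, one_smul]
    have hle : Commute l e := C.ker.cent l hy e he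
    have h3 := C.eq_one_of_fix_point (g := (v * g)⁻¹ * (g * v)) (fun x hx => by
      rw [mul_smul, mul_smul, inv_smul_eq_iff, hx, hgF x hx, mul_smul, hgF x hx, hx]) hvp (by
      rw [mul_smul, inv_smul_eq_iff, mul_smul, mul_smul, hvp', ← mul_smul g,
        (hgl (C.ker.le (C.ker.E_le he))).eq, mul_smul, ← hlp, ← mul_smul v, ← (commute_of_mem_cGrp hl).eq, mul_smul,
        hvp', ← mul_smul, ← mul_smul, hle.eq])
    exact (inv_mul_eq_one.1 h3).symm
  obtain ⟨-, hgv⟩ := key hgF hr hr2 hgr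
  have hsub : fixKer Ω v E ≤ R := by
    have hp2 : IsPGroup 2 (fixKer Ω v E) := by
      rintro ⟨x, hx⟩
      obtain ⟨hxF, hxv, -⟩ := mem_fixKer.1 hx
      obtain ⟨⟨n, hn⟩, -⟩ := key hxF C.data.u_mem C.top.multi.1 hxv
      exact ⟨n, Subtype.ext hn⟩
    exact (Subgroup.eq_of_le_of_card_ge C.data.R_fix
      (C.data.R_max _ hp2 (fixKer_le_fixGrp C.ldata.fix_a C.ldata.fix_b))).ge
  exact hsub (mem_fixKer.2 ⟨hgF, hgv, hgE⟩)

/-- An element fixing `b`, centralising `E` and stabilising `Fix u` fixes `Fix u` pointwise. -/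
theorem stab_fix {g : G} (hgb : g • b = b) (hgE : ∀ e ∈ E, Commute g e) (hgF : PresF Ω v g) :
    ∀ x : Ω, v • x = x → g • x = x := by
  classical
  haveI := Fact.mk Nat.prime_two
  haveI := C.crit.finite_points
  have hga := C.fixes_a hgE
  -- the square
  have hgQ : ∀ y ∈ Q, g * y * g⁻¹ ∈ Q := by
    intro y hy
    obtain ⟨e, he, he1, -⟩ := C.exists_line_point
    have hc : Commute (g * y * g⁻¹) e := by
      have := (Commute.conj_iff g).2 (C.ker.cent y hy e he)
      rwa [commute_of_trans' hgE he] at this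
    obtain ⟨y', hy', h1⟩ := C.ker.centInv _ (C.conj_cGrp hgF (C.ker.le hy)) e he he1 (by
      rw [hc.eq, mul_inv_cancel_right, mul_inv_cancel]; exact one_mem _)
    rw [← inv_mul_eq_one.1 (C.reg.ker _ h1)]
    exact hy'
  have hgd : ∀ y ∈ Q, y⁻¹ * (g * y * g⁻¹) ∈ E := fun y hy =>
    C.ker.sq_inj y hy _ (hgQ y hy) (by
      rw [show g * y * g⁻¹ * (g * y * g⁻¹) = g * (y * y) * g⁻¹ by group, commute_of_trans' hgE (C.ker.sq y hy)])
  have hg2 : ∀ x : Ω, v • x = x → (g * g) • x = x := by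
    intro x hx
    rcases eq_or_ne x a with rfl | hxa
    · rw [mul_smul, hga, hga]
    obtain ⟨y, hy, rfl⟩ := C.ker.trans x hx hxa
    have hcy : Commute (g * g) y := by
      set d := y⁻¹ * (g * y * g⁻¹) with hd
      have h1 : g * y * g⁻¹ = y * d := by rw [hd, mul_inv_cancel_left]
      have h2 : g * g * y * (g * g)⁻¹ = y := by
        rw [show g * g * y * (g * g)⁻¹ = g * (g * y * g⁻¹) * g⁻¹ by group, h1,
          show g * (y * d) * g⁻¹ = g * y * g⁻¹ * (g * d * g⁻¹) by group, h1, commute_of_trans' hgE (hgd y hy),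
          mul_assoc, C.crit.sq_E C.ldata (hgd y hy), mul_one]
      exact mul_inv_eq_iff_eq_mul.1 h2
    rw [← mul_smul, hcy.eq, mul_smul, mul_smul g g b, hgb, hgb]
  -- the two-part
  let M : Subgroup G :=
    { carrier := {x | x • b = b ∧ (∀ e ∈ E, Commute x e) ∧ PresF Ω v x}
      one_mem' := ⟨one_smul _ _, fun e _ => Commute.one_left e, presF_of_commute (Commute.one_left v)⟩
      mul_mem' := fun {x y} hx hy => ⟨by rw [mul_smul, hy.1, hx.1], fun e he => (hx.2.1 e he).mul_left (hy.2.1 e he),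
        hx.2.2.mul hy.2.2⟩
      inv_mem' := fun {x} hx => ⟨inv_smul_eq_iff.2 hx.1.symm, fun e he => (hx.2.1 e he).inv_left, hx.2.2.inv⟩ }
  have hbound : ∀ S : Subgroup G, IsPGroup 2 S → S ≤ M → Nat.card S ≤ Nat.card R := by
    intro S hS hSM
    have hld := C.crit.localDichotomy C.faithful C.below
    have hob := (C.crit.orbitBound hld (C.crit.unipTrans C.faithful C.below) v a b E q 2 C.frame S hS
      (fun x hx => ⟨C.fixes_a (hSM hx).2.1, (hSM hx).2.1⟩)).1 b C.ldata.ne.symm
    rw [show MulAction.stabilizer S b = ⊤ from (Subgroup.eq_top_iff' _).2 fun x => (hSM x.2).1, Subgroup.card_top] at hob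
    refine hob.trans ?_
    obtain ⟨T, hT⟩ := Sylow.exists_subgroup_card_pow_prime (G := fixGrp v a b E) 2
      (pow_padicValNat_dvd (p := 2) (n := Nat.card (fixGrp v a b E)))
    calc _ = Nat.card T := hT.symm
      _ = Nat.card (T.map (fixGrp v a b E).subtype) :=
          (Subgroup.card_map_of_injective (fixGrp v a b E).subtype_injective).symm
      _ ≤ _ := C.data.R_max _ ((IsPGroup.of_card hT).map _) (map_subtype_le _)
  have hRM : R ≤ M := fun r hr => ⟨C.data.R_fixes hr C.ldata.fix_b, fun e he => C.data.R_commute_E hr he,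
    presF_of_commute (C.data.R_commute_u hr)⟩
  obtain ⟨S, hS⟩ := ((C.data.two.to_le C.data.R_le).comap_subtype (K := M)).exists_le_sylow
  have hSeq : (S : Subgroup M).map M.subtype = R := by
    have hle : R ≤ (S : Subgroup M).map M.subtype := fun r hr => ⟨⟨r, hRM hr⟩, hS hr, rfl⟩
    exact (Subgroup.eq_of_le_of_card_ge hle (hbound _ (S.isPGroup'.map _) (map_subtype_le _))).symm
  obtain ⟨n, m, hm, hnm⟩ := Nat.exists_eq_two_pow_mul_odd (orderOf_pos g).ne'
  obtain ⟨j, hj⟩ := hm
  set g' : M := ⟨g ^ m, pow_mem (show g ∈ M from ⟨hgb, hgE, hgF⟩) m⟩ with hg'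
  have hg'p : IsPGroup 2 (zpowers g') := by
    have h1 : g' ^ 2 ^ n = 1 := Subtype.ext (by
      show (g ^ m) ^ 2 ^ n = 1
      rw [← pow_mul, mul_comm, ← hnm, pow_orderOf_eq_one])
    obtain ⟨i, -, hi⟩ := (Nat.dvd_prime_pow Nat.prime_two).1 (orderOf_dvd_of_pow_eq_one h1)
    exact IsPGroup.of_card (n := i) (by rw [Nat.card_zpowers, hi])
  obtain ⟨T, hT⟩ := hg'p.exists_le_sylow
  obtain ⟨k, hk⟩ := MulAction.exists_smul_eq M S T
  have hgT := hT (mem_zpowers g')
  rw [← hk, Sylow.coe_subgroup_smul, Subgroup.mem_pointwise_smul_iff_inv_smul_mem] at hgT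
  have hmem : (k : G)⁻¹ * g ^ m * k ∈ R := hSeq.le ⟨_, hgT, by simp [hg']⟩
  intro x hx
  have h1 : (g ^ m) • x = x := by
    have hkx : v • ((k : G)⁻¹ • x) = (k : G)⁻¹ • x := (k.2.2.2.inv x).1 hx
    have := C.data.R_fixes hmem hkx
    rwa [mul_smul, mul_smul, smul_inv_smul, inv_smul_eq_iff, smul_inv_smul] at this
  have h2 : ((g * g) ^ j) • x = x :=
    pow_mem (show g * g ∈ stabilizer G x from hg2 x hx) j
  rw [hj, show g ^ (2 * j + 1) = g * (g * g) ^ j by rw [pow_succ', pow_mul, pow_two], mul_smul, h2] at h1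
  exact h1
where
  commute_of_trans' {g : G} {E : Subgroup G} (hgE : ∀ e ∈ E, Commute g e) {e : G} (he : e ∈ E) :
      g * e * g⁻¹ = e := by rw [(hgE e he).eq, mul_inv_cancel_right]

/-- The centraliser in `C(E)` of an involution of `R` lies in `P`. -/
theorem stab_mem {z r : G} (hzE : ∀ e ∈ E, Commute z e) (hr : r ∈ R) (hr2 : orderOf r = 2) (hzr : Commute z r) :
    z ∈ P := by
  have hza := C.fixes_a hzE
  have hzF : PresF Ω v z := fun x => by
    rw [← (C.invol_R hr hr2).2 x, ← (C.invol_R hr hr2).2 (z • x)]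
    exact presF_of_commute hzr x
  obtain ⟨y, hy, hyb⟩ := C.ker.trans (z • b) ((hzF b).1 C.ldata.fix_b)
    fun e => C.ldata.ne (smul_left_cancel z (hza.trans e.symm))
  have hzb : (y⁻¹ * z) • b = b := by rw [mul_smul, ← hyb, inv_smul_smul]
  have hE' : ∀ e ∈ E, Commute (y⁻¹ * z) e := fun e he => (C.ker.cent y hy e he).inv_left.mul_left (hzE e he)
  have hfix := C.stab_fix hzb hE' ((presF_of_commute (commute_of_mem_cGrp (C.ker.le (inv_mem hy)))).mul hzF)
  have hR := C.mem_R hfix hE' hr hr2 ((C.data.comm y hy r hr).inv_left.mul_left hzr)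
  rw [show z = y * (y⁻¹ * z) by group]
  exact mul_mem (C.data.Q_le hy) (C.data.R_le hR)

/-- Every translation is in `P`. -/
theorem mem_P {x : G} (hx : x ∈ transGrp v a E) : x ∈ P := by
  obtain ⟨t, ht, htv⟩ := C.data.shift _ hx.2.2
  rw [mul_inv_cancel_left] at htv
  have h1 : t⁻¹ * x * v * (t⁻¹ * x)⁻¹ = v := by
    rw [show t⁻¹ * x * v * (t⁻¹ * x)⁻¹ = t⁻¹ * (x * v * x⁻¹) * t by group, ← htv]
    group
  have hmem := C.stab_mem (z := t⁻¹ * x) (fun e he => ((C.data.sub t ht).2.1 e he).inv_left.mul_left (hx.2.1 e he))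
    C.data.u_mem C.top.multi.1 (mul_inv_eq_iff_eq_mul.1 h1)
  rw [show x = t * (t⁻¹ * x) by group]
  exact mul_mem ht hmem

end Ctx

end CfsgLib.AschCrit.Pairing
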