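import Cfsg.Agent.Lib.Invol.AschCrit.Pairing.Basic
import Cfsg.Agent.Lib.Invol.AschCrit.ModelDef

/-!
Owner: helper16. Aschbacher's criterion, `NoPairing`: a Sylow group of the translations containing `Q` and `u`.

* `PData`: the Sylow group `P`, its kernel `R` and their first properties.
* `Crit.exists_pData`: it exists under the hypotheses of `NoPairing`.
* `PData.no_sqrt`: an involution of `R` with translations is no square in `R`.
* `PData.exists_second`: `R` has a second involution.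
-/

set_option autoImplicit false
set_option linter.unusedSectionVars false
set_option linter.style.haveILetI false

namespace CfsgLib.AschCrit

open Subgroup MulAction

universe u

variable {G : Type u} [Group G] {Ω : Type u} [MulAction G Ω]

/-- A Sylow group `P` of the translations containing `Q` and `u`, all its involutions centralising `u`. -/
structure PData (D : Set G) (u : G) (a b : Ω) (E : Subgroup G) (Q P R : Subgroup G) : Prop where
  two : IsPGroup 2 P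
  sub : ∀ g ∈ P, g ∈ transGrp u a E
  Q_le : Q ≤ P
  R_le : R ≤ P
  R_fix : R ≤ fixKer Ω u E
  u_mem : u ∈ R
  shift : ∀ e ∈ E, ∃ x ∈ P, x * u * x⁻¹ = u * e
  decomp : ∀ g ∈ P, Commute g u → ∃ y ∈ Q, ∃ r ∈ R, g = y * r
  comm : ∀ y ∈ Q, ∀ r ∈ R, Commute y r
  inv : ∀ g ∈ P, g * g = 1 → Commute g u
  R_max : ∀ S : Subgroup G, IsPGroup 2 S → S ≤ fixGrp u a b E → Nat.card S ≤ Nat.card R
  R_four : 4 ≤ Nat.card R

theorem commute_of_trans {u g : G} {a : Ω} {E : Subgroup G} (hg : g ∈ transGrp u a E) {e : G} (he : e ∈ E) :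
    g * e * g⁻¹ = e := by rw [(hg.2.1 e he).eq, mul_inv_cancel_right]

variable [Finite G] {D : Set G} {u : G} {a b : Ω} {E : Subgroup G} {q : ℕ}

/-- A 2-element of `<D cap C(u)>` in the kernel is trivial. -/
theorem SzKer.eq_one_of_two {Q : Subgroup G} (hQ : SzKer D u a b E q Q) {P : Subgroup G} (hP : IsPGroup 2 P) {x : G}
    (hx : x ∈ P) (hxk : x ∈ kerGrp Ω D u) : x = 1 := by
  obtain ⟨n, hn⟩ := hP ⟨x, hx⟩
  exact eq_one_of_sq_of_odd_card hQ.ker_odd hxk (congrArg Subtype.val hn : x ^ 2 ^ n = 1)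

namespace Crit

variable (h : Crit Ω D)
include h

/-- The Sylow group of the translations under the hypotheses of `NoPairing`. -/
theorem exists_pData (hf : Faithful G Ω) (IH : Below.{u, u} (Nat.card G)) (ht : TopFrame D u a b E q 2)
    (htr : HasTrans u a E) {Q : Subgroup G} (hQ : SzKer D u a b E q Q) {P₀ : Subgroup G} (hP₀ : IsPGroup 2 P₀)
    (hsub₀ : ∀ g ∈ P₀, g ∈ transGrp u a E)
    (hmax₀ : ∀ K : Subgroup G, IsPGroup 2 K → (∀ g ∈ K, g ∈ transGrp u a E) → Nat.card K ≤ Nat.card P₀)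
    (h4 : 4 ≤ 2 ^ padicValNat 2 (Nat.card (fixGrp u a b E))) (hinv₀ : ∀ g ∈ P₀, g * g = 1 → Commute g u) :
    ∃ P R : Subgroup G, PData D u a b E Q P R := by
  classical
  haveI := Fact.mk Nat.prime_two
  haveI := h.finite_points
  have hl := ht.data
  set A : Subgroup G := cosetGrp u a E ⊓ Subgroup.centralizer (E : Set G) with hA
  have hmemA : ∀ {g : G}, g ∈ A ↔ g ∈ transGrp u a E := fun {g} => by
    refine ⟨fun hg => ⟨hg.1.1, fun e he => (Subgroup.mem_centralizer_iff.1 hg.2 e he).symm, hg.1.2.2⟩,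
      fun hg => ⟨⟨hg.1, fun e he => ⟨by rw [commute_of_trans hg he]; exact he,
        by rw [mul_assoc, ← (hg.2.1 e he).eq, inv_mul_cancel_left]; exact he⟩, hg.2.2⟩,
        Subgroup.mem_centralizer_iff.2 fun e he => (hg.2.1 e he).symm⟩⟩
  -- `P` contains `Q` and `u`
  have hQu : IsPGroup 2 (Q ⊔ zpowers u : Subgroup G) :=
    isPGroup_sup_involution hQ.two ht.multi.1 fun g hg => commute_of_mem_cGrp (hQ.le hg)
  have hQA : Q ⊔ zpowers u ≤ A := by
    refine sup_le (fun y hy => hmemA.2 ⟨hQ.fix_a y hy, hQ.cent y hy, ?_⟩) (zpowers_le.2 (hmemA.2 ⟨hl.fix_a, ?_, ?_⟩))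
    · rw [(commute_of_mem_cGrp (hQ.le hy)).eq, mul_inv_cancel_right, inv_mul_cancel]; exact one_mem _
    · intro e he
      rcases eq_or_ne e 1 with h1 | h1
      · rw [h1]; exact Commute.one_right _
      · exact (hl.mem e he h1).2.2.symm
    · rw [mul_inv_cancel_right, inv_mul_cancel]; exact one_mem _
  obtain ⟨S, hS⟩ := (hQu.comap_subtype (K := A)).exists_le_sylow
  obtain ⟨S₀, hS₀⟩ := (hP₀.comap_subtype (K := A)).exists_le_sylow
  have hS₀eq : (S₀ : Subgroup A).map A.subtype = P₀ := by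
    have hle : P₀ ≤ (S₀ : Subgroup A).map A.subtype := fun x hx => ⟨⟨x, hmemA.2 (hsub₀ x hx)⟩, hS₀ hx, rfl⟩
    refine (Subgroup.eq_of_le_of_card_ge hle ?_).symm
    exact hmax₀ _ (S₀.isPGroup'.map _) fun g hg => hmemA.1 (map_subtype_le _ hg)
  set P := (S : Subgroup A).map A.subtype with hP
  have hPA : P ≤ A := map_subtype_le _
  have hPp : IsPGroup 2 P := S.isPGroup'.map _
  have hinv : ∀ g ∈ P, g * g = 1 → Commute g u := by
    rintro _ ⟨g, hg, rfl⟩ hgg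
    obtain ⟨k, hk⟩ := MulAction.exists_smul_eq A S₀ S
    rw [← hk, SetLike.mem_coe, Sylow.coe_subgroup_smul, Subgroup.mem_pointwise_smul_iff_inv_smul_mem] at hg
    have hg' : (k : G)⁻¹ * g * k ∈ P₀ := hS₀eq.le ⟨_, hg, by simp⟩
    have hgg' : (g : G) * g = 1 := hgg
    have hc := hinv₀ _ hg' (by rw [show (k : G)⁻¹ * g * k * ((k : G)⁻¹ * g * k) = (k : G)⁻¹ * ((g : G) * g) * k by group,
      hgg', mul_one, inv_mul_cancel])
    have hk' := (hmemA.1 k.2).2.2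
    obtain ⟨e, he, hke⟩ : ∃ e ∈ E, (k : G) * u * (k : G)⁻¹ = u * e :=
      ⟨_, hk', by rw [mul_inv_cancel_left]⟩
    have h1 : Commute (g : G) (u * e) := by
      rw [← hke, show (g : G) = (k : G) * ((k : G)⁻¹ * g * k) * (k : G)⁻¹ by group]
      exact (Commute.conj_iff (k : G)).2 hc
    have h2 := ((hmemA.1 g.2).2.1 e he)
    have h3 : Commute (g : G) (u * e * e⁻¹) := h1.mul_right h2.inv_right
    rwa [mul_inv_cancel_right] at h3
  set R := P ⊓ fixKer Ω u E with hR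
  have hQP : Q ≤ P := fun y hy => ⟨⟨y, hQA (mem_sup_left hy)⟩, hS (mem_sup_left hy : y ∈ Q ⊔ zpowers u), rfl⟩
  have huP : u ∈ P := ⟨⟨u, hQA (mem_sup_right (mem_zpowers u))⟩,
    hS (mem_sup_right (mem_zpowers u) : u ∈ Q ⊔ zpowers u), rfl⟩
  have huR : u ∈ R := ⟨huP, mem_fixKer.2 ⟨fun x hx => hx, Commute.refl u,
    fun e he => (hmemA.1 (hPA huP)).2.1 e he⟩⟩
  have hdecomp : ∀ g ∈ P, Commute g u → ∃ y ∈ Q, ∃ r ∈ R, g = y * r := by
    intro g hg hgu
    obtain ⟨hga, hgE, -⟩ := hmemA.1 (hPA hg)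
    obtain ⟨y, hy, hyb⟩ := hQ.trans (g • b) (by rw [← mul_smul, ← hgu.eq, mul_smul, hl.fix_b])
      fun e => hl.ne (smul_left_cancel g (hga.trans e.symm))
    refine ⟨y, hy, y⁻¹ * g, Subgroup.mem_inf.2 ⟨mul_mem (inv_mem (hQP hy)) hg, ?_⟩, (mul_inv_cancel_left y g).symm⟩
    obtain ⟨n, hn⟩ := hPp ⟨y⁻¹ * g, mul_mem (inv_mem (hQP hy)) hg⟩
    refine h.mem_fixKer_of_two hf IH ht (mem_fixGrp_iff.2 ⟨?_, ?_, (commute_of_mem_cGrp (hQ.le hy)).inv_left.mul_left hgu,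
      fun e he => (hQ.cent y hy e he).inv_left.mul_left (hgE e he)⟩) (congrArg Subtype.val hn)
    · rw [mul_smul, hga, inv_smul_eq_iff, hQ.fix_a y hy]
    · rw [mul_smul, ← hyb, inv_smul_smul]
  have hcomm : ∀ y ∈ Q, ∀ r ∈ R, Commute y r := by
    intro y hy r hr
    obtain ⟨hrF, hru, -⟩ := mem_fixKer.1 hr.2
    have h1 := hQ.eq_one_of_two hPp (mul_mem (mul_mem (mul_mem hr.1 (hQP hy)) (inv_mem hr.1)) (inv_mem (hQP hy)))
      (h.comm_mem_ker hru hrF (hQ.le hy))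
    exact (mul_inv_eq_iff_eq_mul.1 (mul_inv_eq_one.1 h1)).symm
  -- orders
  obtain ⟨σ, hσ⟩ := exists_cosetHom (u := u) (a := a) (E := E)
  letI : MulAction A E := MulAction.compHom E (σ.comp (Subgroup.inclusion (inf_le_left : A ≤ cosetGrp u a E)))
  have hAsmul : ∀ g : A, ((g • (1 : E) : E) : G) = u⁻¹ * ((g : G) * u * (g : G)⁻¹) := fun g => by
    show ((σ _ (1 : E) : E) : G) = _
    rw [hσ, Subgroup.coe_one, mul_one, mul_inv_cancel, mul_one]
    rfl
  have horb : MulAction.orbit A (1 : E) = Set.univ := by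
    refine Set.eq_univ_of_forall fun x => ?_
    obtain ⟨g, hga, hgE, hgu⟩ := htr x x.2
    refine ⟨⟨g, hmemA.2 ⟨hga, hgE, by rw [hgu, inv_mul_cancel_left]; exact x.2⟩⟩, Subtype.ext ?_⟩
    show ((_ • (1 : E) : E) : G) = x
    rw [hAsmul]
    show u⁻¹ * (g * u * g⁻¹) = x
    rw [hgu, inv_mul_cancel_left]
  set C : Subgroup G := stabilizer G a ⊓ Subgroup.centralizer (insert u (E : Set G)) with hC
  have hCmem : ∀ {g : G}, g ∈ C ↔ g • a = a ∧ Commute g u ∧ ∀ e ∈ E, Commute g e := fun {g} => by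
    simp only [hC, Subgroup.mem_inf, Subgroup.mem_centralizer_iff, MulAction.mem_stabilizer_iff,
      Set.forall_mem_insert, Commute, SemiconjBy, SetLike.mem_coe]
    exact ⟨fun ⟨h1, h2, h3⟩ => ⟨h1, h2.symm, fun e he => (h3 e he).symm⟩,
      fun ⟨h1, h2, h3⟩ => ⟨h1, h2.symm, fun e he => (h3 e he).symm⟩⟩
  have hfix1 : ∀ g : A, g • (1 : E) = 1 ↔ Commute (g : G) u := fun g => by
    constructor
    · intro hg
      have := congrArg (fun z : E => (z : G)) hg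
      simp only [hAsmul, Subgroup.coe_one] at this
      exact mul_inv_eq_iff_eq_mul.1 (inv_mul_eq_one.1 this).symm
    · intro hg
      refine Subtype.ext ?_
      rw [hAsmul, hg.eq, mul_inv_cancel_right, inv_mul_cancel]
      rfl
  have hCA : C ≤ A := fun g hg => by
    obtain ⟨hga, hgu, hgE⟩ := hCmem.1 hg
    exact hmemA.2 ⟨hga, hgE, by rw [hgu.eq, mul_inv_cancel_right, inv_mul_cancel]; exact one_mem _⟩
  have hstA : (MulAction.stabilizer A (1 : E)).map A.subtype = C := by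
    ext g
    refine ⟨?_, fun hg => ⟨⟨g, hCA hg⟩, (hfix1 _).2 (hCmem.1 hg).2.1, rfl⟩⟩
    rintro ⟨g, hg, rfl⟩
    exact hCmem.2 ⟨(hmemA.1 g.2).1, (hfix1 g).1 hg, (hmemA.1 g.2).2.1⟩
  have hAcard : Nat.card A = q * Nat.card C := by
    rw [← hstA, Subgroup.card_map_of_injective A.subtype_injective,
      ← Subgroup.index_mul_card (MulAction.stabilizer A (1 : E)), MulAction.index_stabilizer, horb,
      Set.ncard_univ, hl.card_E]
  have horbC : MulAction.orbit C b = {x : Ω | u • x = x} \ {a} := by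
    ext x
    constructor
    · rintro ⟨g, rfl⟩
      obtain ⟨hga, hgu, -⟩ := hCmem.1 g.2
      refine ⟨?_, fun e => hl.ne (smul_left_cancel (g : G) (hga.trans (e : (g : G) • b = a).symm))⟩
      show u • ((g : G) • b) = (g : G) • b
      rw [← mul_smul, ← hgu.eq, mul_smul, hl.fix_b]
    · rintro ⟨hx, hxa⟩
      obtain ⟨g, hg, hgb⟩ := hQ.trans x hx hxa
      exact ⟨⟨g, hCmem.2 ⟨hQ.fix_a g hg, commute_of_mem_cGrp (hQ.le hg), hQ.cent g hg⟩⟩, hgb⟩
  have hCcard : Nat.card C = q ^ 2 * Nat.card (fixGrp u a b E) := by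
    have hst : (MulAction.stabilizer C b).map C.subtype = fixGrp u a b E := by
      ext g
      constructor
      · rintro ⟨g, hg, rfl⟩
        exact ⟨⟨g.2.1, hg⟩, g.2.2⟩
      · rintro ⟨⟨hga, hgb⟩, hgc⟩
        exact ⟨⟨g, hga, hgc⟩, hgb, rfl⟩
    rw [← hst, Subgroup.card_map_of_injective C.subtype_injective,
      ← Subgroup.index_mul_card (MulAction.stabilizer C b), MulAction.index_stabilizer, horbC,
      Set.ncard_sdiff_singleton_of_mem (show a ∈ {x : Ω | u • x = x} from hl.fix_a),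
      show {x : Ω | u • x = x}.ncard = q ^ 2 + 1 from hl.card_fix, Nat.add_sub_cancel]
  obtain ⟨s, -, hs⟩ := hl.pow
  set k := padicValNat 2 (Nat.card (fixGrp u a b E)) with hk
  have hdvd : 2 ^ (s * 3 + k) ∣ Nat.card A := by
    rw [hAcard, hCcard, ← mul_assoc, ← pow_succ', hs, ← pow_mul, pow_add]
    exact Nat.mul_dvd_mul_left _ pow_padicValNat_dvd
  have hPcard : q ^ 3 * 2 ^ k ≤ Nat.card P := by
    obtain ⟨K, hK⟩ := Sylow.exists_subgroup_card_pow_prime (G := A) 2 hdvd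
    obtain ⟨S', hS'⟩ := (IsPGroup.of_card hK).exists_le_sylow
    rw [hs, ← pow_mul, ← pow_add, ← hK, hP, Subgroup.card_map_of_injective A.subtype_injective,
      Sylow.card_eq_multiplicity S, ← Sylow.card_eq_multiplicity S']
    exact Subgroup.card_le_of_le hS'
  have hRk : ∀ T : Subgroup G, IsPGroup 2 T → T ≤ fixGrp u a b E → Nat.card T ≤ 2 ^ k := by
    intro T hT hTle
    obtain ⟨n, hn⟩ := hT.exists_card_eq
    rw [hn]
    refine Nat.pow_le_pow_right two_pos ((padicValNat_dvd_iff_le Nat.card_pos.ne').1 ?_)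
    exact hn ▸ Subgroup.card_dvd_of_le hTle
  have hRfix : R ≤ fixGrp u a b E := inf_le_right.trans (fixKer_le_fixGrp hl.fix_a hl.fix_b)
  have hRle := hRk R (hPp.to_le inf_le_left) hRfix
  set SA := (MulAction.stabilizer S (1 : E)) with hSA
  have hSAcard : Nat.card SA ≤ q ^ 2 * Nat.card R := by
    rw [← hQ.card, ← Nat.card_prod]
    have hmem : ∀ g : SA, ((g : S) : A).1 ∈ P ∧ Commute ((g : S) : A).1 u := fun g =>
      ⟨⟨_, (g : S).2, rfl⟩, (hfix1 _).1 g.2⟩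
    choose y hy r hr hyr using fun g : SA => hdecomp _ (hmem g).1 (hmem g).2
    refine Nat.card_le_card_of_injective (fun g => ((⟨y g, hy g⟩ : Q), (⟨r g, hr g⟩ : R))) fun g g' e => ?_
    obtain ⟨e1, e2⟩ := Prod.ext_iff.1 e
    refine Subtype.ext (Subtype.ext (Subtype.ext ?_))
    rw [hyr g, hyr g', show y g = y g' from congrArg Subtype.val e1, show r g = r g' from congrArg Subtype.val e2]
  have horbS : Nat.card S = (MulAction.orbit S (1 : E)).ncard * Nat.card SA := by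
    rw [hSA, ← Subgroup.index_mul_card (MulAction.stabilizer S (1 : E)), MulAction.index_stabilizer]
  have horble : (MulAction.orbit S (1 : E)).ncard ≤ q := by
    rw [← hl.card_E, ← Set.ncard_univ]
    exact Set.ncard_le_ncard (Set.subset_univ _)
  have hScard : Nat.card P = Nat.card S := Subgroup.card_map_of_injective A.subtype_injective
  rw [hScard, horbS] at hPcard
  have hq0 : 0 < q := by have := four_le_q hl; omega
  have horbeq : (MulAction.orbit S (1 : E)).ncard = q := by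
    refine le_antisymm horble ?_
    have h1 : q * (q ^ 2 * 2 ^ k) ≤ (MulAction.orbit S (1 : E)).ncard * (q ^ 2 * 2 ^ k) := by
      rw [show q * (q ^ 2 * 2 ^ k) = q ^ 3 * 2 ^ k by ring]
      exact hPcard.trans (Nat.mul_le_mul_left _ (hSAcard.trans (Nat.mul_le_mul_left _ hRle)))
    exact Nat.le_of_mul_le_mul_right h1 (by positivity)
  have hRge : 2 ^ k ≤ Nat.card R := by
    rw [horbeq, show q ^ 3 * 2 ^ k = q * (q ^ 2 * 2 ^ k) by ring] at hPcard
    exact Nat.le_of_mul_le_mul_left ((Nat.le_of_mul_le_mul_left hPcard hq0).trans hSAcard) (by positivity)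
  refine ⟨P, R, hPp, fun g hg => hmemA.1 (hPA hg), hQP, inf_le_left, inf_le_right, huR, fun e he => ?_, hdecomp,
    hcomm, hinv, fun T hT hTle => (hRk T hT hTle).trans hRge, h4.trans hRge⟩
  have huniv : MulAction.orbit S (1 : E) = Set.univ :=
    Set.eq_of_subset_of_ncard_le (Set.subset_univ _) (by rw [Set.ncard_univ, hl.card_E, horbeq])
  obtain ⟨x, hx⟩ := huniv.ge (Set.mem_univ (⟨e, he⟩ : E))
  refine ⟨(x : A), ⟨_, x.2, rfl⟩, ?_⟩
  have h1 : u⁻¹ * (((x : A) : G) * u * ((x : A) : G)⁻¹) = e := by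
    rw [← hAsmul]; exact congrArg Subtype.val hx
  rw [← h1, mul_inv_cancel_left]

end Crit

namespace PData

variable {h : Crit Ω D} {Q P R : Subgroup G} (hP : PData D u a b E Q P R)
include hP

theorem R_fixes {r : G} (hr : r ∈ R) {x : Ω} (hx : u • x = x) : r • x = x := (mem_fixKer.1 (hP.R_fix hr)).1 x hx

theorem R_commute_E {r : G} (hr : r ∈ R) {e : G} (he : e ∈ E) : Commute r e :=
  (mem_fixKer.1 (hP.R_fix hr)).2.2 e he

theorem R_commute_u {r : G} (hr : r ∈ R) : Commute r u := (mem_fixKer.1 (hP.R_fix hr)).2.1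

/-- The two factors of an element of `Q R` are unique. -/
theorem eq_of_mul_eq (hl : LData D u a b E q 2) (hQ : SzKer D u a b E q Q) {y y' r r' : G} (hy : y ∈ Q) (hy' : y' ∈ Q)
    (hr : r ∈ R) (hr' : r' ∈ R) (he : y * r = y' * r') : y = y' ∧ r = r' := by
  have hb := congrArg (fun g : G => g • b) he
  simp only [mul_smul, hP.R_fixes hr hl.fix_b, hP.R_fixes hr' hl.fix_b] at hb
  have h1 := hQ.free _ (mul_mem (inv_mem hy') hy) b hl.fix_b hl.ne.symm (by rw [mul_smul, hb, inv_smul_smul])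
  have h2 : y = y' := (inv_mul_eq_one.1 h1).symm
  exact ⟨h2, mul_left_cancel (h2 ▸ he)⟩

theorem sq_mul (hQ : SzKer D u a b E q Q) {y r : G} (hy : y ∈ Q) (hr : r ∈ R) :
    y * r * (y * r) = y * y * (r * r) ∧ y * y ∈ Q ∧ r * r ∈ R := by
  refine ⟨?_, mul_mem hy hy, mul_mem hr hr⟩
  rw [show y * r * (y * r) = y * (r * y) * r by group, ← (hP.comm y hy r hr).eq]
  group

/-- A member of `Q` moves under the translations only by `E` and an involution of `R`. -/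
theorem conj_Q (hl : LData D u a b E q 2) (hQ : SzKer D u a b E q Q) {x y : G} (hx : x ∈ P) (hy : y ∈ Q) :
    ∃ y' ∈ Q, ∃ r ∈ R, x * y * x⁻¹ = y' * r ∧ y⁻¹ * y' ∈ E ∧ r * r = 1 := by
  have hxt := hP.sub x hx
  have hmem : x * y * x⁻¹ ∈ P := mul_mem (mul_mem hx (hP.Q_le hy)) (inv_mem hx)
  have hcu : Commute (x * y * x⁻¹) u := by
    have h1 : Commute (x * y * x⁻¹) (x * u * x⁻¹) := (Commute.conj_iff x).2 (commute_of_mem_cGrp (hQ.le hy))
    have h2 : Commute (x * y * x⁻¹) (u⁻¹ * (x * u * x⁻¹)) := (hP.sub _ hmem).2.1 _ hxt.2.2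
    have h3 := h1.mul_right h2.inv_right
    rwa [show x * u * x⁻¹ * (u⁻¹ * (x * u * x⁻¹))⁻¹ = u by group] at h3
  obtain ⟨y', hy', r, hr, e⟩ := hP.decomp _ hmem hcu
  obtain ⟨hsq, hyy, hrr⟩ := hP.sq_mul hQ hy' hr
  have h1 : y * y * 1 = y' * y' * (r * r) := by
    rw [← hsq, ← e, mul_one, show x * y * x⁻¹ * (x * y * x⁻¹) = x * (y * y) * x⁻¹ by group,
      commute_of_trans hxt (hQ.sq y hy)]
  obtain ⟨h2, h3⟩ := hP.eq_of_mul_eq hl hQ (mul_mem hy hy) hyy (one_mem _) hrr h1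
  exact ⟨y', hy', r, hr, e, hQ.sq_inj y hy y' hy' h2, h3.symm⟩

/-- An involution of `R` with translations is no square in `R`. -/
theorem no_sqrt (h : Crit Ω D) (hl : LData D u a b E q 2) (hQ : SzKer D u a b E q Q) {w : G} (hw : w ∈ R)
    (hshift : ∀ e ∈ E, ∃ x ∈ P, x * w * x⁻¹ = w * e) {z : G} (hz : z ∈ R) : z * z ≠ w := by
  intro hzw
  have hPc : ∀ {x z' : G}, x ∈ P → z' ∈ R → ∃ y ∈ Q, ∃ r ∈ R, x * z' * x⁻¹ = y * r := by
    intro x z' hx hz'
    have hxt := hP.sub x hx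
    have hmem : x * z' * x⁻¹ ∈ P := mul_mem (mul_mem hx (hP.R_le hz')) (inv_mem hx)
    refine hP.decomp _ hmem ?_
    have h1 : Commute (x * z' * x⁻¹) (x * u * x⁻¹) := (Commute.conj_iff x).2 (hP.R_commute_u hz')
    have h2 : Commute (x * z' * x⁻¹) (u⁻¹ * (x * u * x⁻¹)) := (hP.sub _ hmem).2.1 _ hxt.2.2
    have h3 := h1.mul_right h2.inv_right
    rwa [show x * u * x⁻¹ * (u⁻¹ * (x * u * x⁻¹))⁻¹ = u by group] at h3
  have hmoved : ∀ {e x z' : G}, e ∈ E → x ∈ P → x * w * x⁻¹ = w * e → z' ∈ R → z' * z' = w →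
      ∀ {y r}, y ∈ Q → r ∈ R → x * z' * x⁻¹ = y * r → y * y = e ∧ r * r = w := by
    intro e x z' he hx hxw hz' hz'w y r hy hr hxz
    obtain ⟨hsq, hyy, hrr⟩ := hP.sq_mul hQ hy hr
    refine (fun ⟨h1, h2⟩ => ⟨h1, h2⟩) (hP.eq_of_mul_eq hl hQ hyy (hQ.E_le he) hrr hw ?_)
    rw [← hsq, ← hxz, show x * z' * x⁻¹ * (x * z' * x⁻¹) = x * (z' * z') * x⁻¹ by group, hz'w, hxw,
      ((hP.R_commute_E hw he)).eq]
  obtain ⟨e₁, e₂, he₁, he₂, h11, h21, h12⟩ : ∃ e₁ e₂ : G, e₁ ∈ E ∧ e₂ ∈ E ∧ e₁ ≠ 1 ∧ e₂ ≠ 1 ∧ e₁ ≠ e₂ := by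
    have h4 := Crit.four_le_q hl
    by_contra hc
    push Not at hc
    obtain ⟨e, he⟩ : ∃ e : G, (E : Set G) ⊆ {1, e} := by
      by_cases hE : ∀ x ∈ E, x = (1 : G)
      · exact ⟨1, fun x hx => Or.inl (hE x hx)⟩
      push Not at hE
      obtain ⟨e, he, he1⟩ := hE
      exact ⟨e, fun x hx => by
        by_cases hx1 : x = 1
        · exact Or.inl hx1
        · exact Or.inr (hc x e hx he hx1 he1)⟩
    have h5 := (Set.ncard_le_ncard he).trans (Set.ncard_insert_le _ _)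
    rw [Set.ncard_singleton, ← Nat.card_coe_set_eq, show Nat.card (E : Set G) = q from hl.card_E] at h5
    omega
  obtain ⟨x₁, hx₁, hxw₁⟩ := hshift e₁ he₁
  obtain ⟨x₂, hx₂, hxw₂⟩ := hshift e₂ he₂
  obtain ⟨y₁, hy₁, r₁, hr₁, h₁⟩ := hPc hx₁ hz
  obtain ⟨y₂, hy₂, r₂, hr₂, h₂⟩ := hPc hx₂ hz
  obtain ⟨hy₁sq, -⟩ := hmoved he₁ hx₁ hxw₁ hz hzw hy₁ hr₁ h₁
  obtain ⟨hy₂sq, hr₂w⟩ := hmoved he₂ hx₂ hxw₂ hz hzw hy₂ hr₂ h₂
  obtain ⟨y₁', hy₁', r₁', hr₁', h₁'⟩ := hPc hx₁ hr₂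
  obtain ⟨hy₁'sq, -⟩ := hmoved he₁ hx₁ hxw₁ hr₂ hr₂w hy₁' hr₁' h₁'
  obtain ⟨y₂', hy₂', s, hs, h₂', hE₂, -⟩ := hP.conj_Q hl hQ hx₁ hy₂
  have hprod : x₁ * x₂ * z * (x₁ * x₂)⁻¹ = (y₂' * y₁') * (s * r₁') := by
    rw [show x₁ * x₂ * z * (x₁ * x₂)⁻¹ = x₁ * (x₂ * z * x₂⁻¹) * x₁⁻¹ by group, h₂,
      show x₁ * (y₂ * r₂) * x₁⁻¹ = (x₁ * y₂ * x₁⁻¹) * (x₁ * r₂ * x₁⁻¹) by group, h₂', h₁',
      show y₂' * s * (y₁' * r₁') = y₂' * (s * y₁') * r₁' by group, ← (hP.comm y₁' hy₁' s hs).eq]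
    group
  have hw12 : x₁ * x₂ * w * (x₁ * x₂)⁻¹ = w * (e₁ * e₂) := by
    rw [show x₁ * x₂ * w * (x₁ * x₂)⁻¹ = x₁ * (x₂ * w * x₂⁻¹) * x₁⁻¹ by group, hxw₂,
      show x₁ * (w * e₂) * x₁⁻¹ = (x₁ * w * x₁⁻¹) * (x₁ * e₂ * x₁⁻¹) by group, hxw₁,
      commute_of_trans (hP.sub x₁ hx₁) he₂]
    group
  obtain ⟨h3, -⟩ := hmoved (mul_mem he₁ he₂) (mul_mem hx₁ hx₂) hw12 hz hzw (mul_mem hy₂' hy₁') (mul_mem hs hr₁') hprod
  -- `y₂'` and `y₁'` commute
  have h2sq : y₂' * y₂' = e₂ := by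
    have hc := hQ.cent y₂ hy₂ _ hE₂
    rw [← hy₂sq]
    set f := y₂⁻¹ * y₂' with hf
    have hff : f * f = 1 := h.sq_E hl hE₂
    rw [show y₂' = y₂ * f by rw [hf, mul_inv_cancel_left], show y₂ * f * (y₂ * f) = y₂ * (f * y₂) * f by group,
      ← hc.eq, show y₂ * (y₂ * f) * f = y₂ * y₂ * (f * f) by group, hff, mul_one]
  have hcomm : Commute y₂' y₁' := by
    have h5 : y₂' * y₁' * (y₂' * y₁') = y₂' * y₂' * (y₁' * y₁') := by
      rw [h3, h2sq, hy₁'sq]; exact (hl.comm e₁ he₁ e₂ he₂).eq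
    rw [show y₂' * y₁' * (y₂' * y₁') = y₂' * ((y₁' * y₂') * y₁') by group,
      show y₂' * y₂' * (y₁' * y₁') = y₂' * ((y₂' * y₁') * y₁') by group] at h5
    exact (mul_right_cancel (mul_left_cancel h5)).symm
  have hy2E : y₂' ∉ E := fun he => h21 (by rw [← h2sq]; exact h.sq_E hl he)
  rcases hQ.comm2 y₂' hy₂' hy2E y₁' hy₁' hcomm with h6 | h6
  · exact h11 (by rw [← hy₁'sq]; exact h.sq_E hl h6)
  · refine h12 ?_
    set f := y₁' * y₂'⁻¹ with hf
    have hff : f * f = 1 := h.sq_E hl h6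
    have hc := hQ.cent y₂' hy₂' f h6
    rw [← hy₁'sq, ← h2sq, show y₁' = f * y₂' by rw [hf, inv_mul_cancel_right],
      show f * y₂' * (f * y₂') = f * (y₂' * f) * y₂' by group, hc.eq,
      show f * (f * y₂') * y₂' = f * f * (y₂' * y₂') by group, hff, one_mul]

/-- `R` has a second involution. -/
theorem exists_second (h : Crit Ω D) (ht : TopFrame D u a b E q 2) (hQ : SzKer D u a b E q Q) :
    ∃ w ∈ R, orderOf w = 2 ∧ w ≠ u := by
  classical
  obtain ⟨z, hzR, hz1, hzu⟩ : ∃ z ∈ R, z ≠ (1 : G) ∧ z ≠ u := by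
    by_contra hc
    push Not at hc
    have hsub : (R : Set G) ⊆ {1, u} := fun x hx => by
      by_cases h1 : x = 1
      · exact Or.inl h1
      · exact Or.inr (hc x hx h1)
    have h5 := (Set.ncard_le_ncard hsub).trans (Set.ncard_insert_le _ _)
    rw [Set.ncard_singleton, ← Nat.card_coe_set_eq] at h5
    have h6 : 4 ≤ Nat.card (R : Set G) := hP.R_four
    omega
  obtain ⟨n, hn⟩ := hP.two ⟨z, hP.R_le hzR⟩
  obtain ⟨m, hm⟩ := exists_sq_involution hz1 (congrArg Subtype.val hn : z ^ 2 ^ n = 1)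
  refine ⟨_, pow_mem hzR (2 ^ m), hm, fun e => ?_⟩
  rcases m with _ | m
  · rw [pow_zero, pow_one] at e; exact hzu e
  · refine hP.no_sqrt h ht.data hQ hP.u_mem hP.shift (z := z ^ 2 ^ m) (pow_mem hzR _) ?_
    rw [← pow_add, ← two_mul, ← pow_succ']
    exact e

end PData

end CfsgLib.AschCrit
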