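import Cfsg.Agent.Lib.Invol.AschCrit.ModelFacts
import Cfsg.Agent.Lib.Invol.AschCrit.ModelCover

/-!
Owner: helper16. Aschbacher's criterion, `NoPairing`: `<D cap C(u)>` in Suzuki type.

* `SzKer`: the two-group `Q` of `<D cap C(u)>` at `a`, as a kernel of Suzuki type.
* `Crit.exists_szKer`: it exists.
-/

set_option autoImplicit false
set_option linter.unusedSectionVars false
set_option linter.style.haveILetI false

namespace CfsgLib.AschCrit

open Subgroup MulAction CfsgLib.Lie.RankOne CfsgLib.Lie.RankOneClass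
open CfsgLib.OddTransitive.RankOne (involutionGroup mem_involutionGroup)
open CfsgLib.RankOneInter.TIAuto (shape_cases)

universe u

variable {G : Type u} [Group G] {Ω : Type u} [MulAction G Ω]

/-- The two-group of `<D cap C(u)>` at `a` in Suzuki type, and what follows for the group. -/
structure SzKer (D : Set G) (u : G) (a b : Ω) (E : Subgroup G) (q : ℕ) (Q : Subgroup G) : Prop where
  le : Q ≤ cGrp D u
  two : IsPGroup 2 Q
  E_le : E ≤ Q
  fix_a : ∀ y ∈ Q, y • a = a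
  cent : ∀ y ∈ Q, ∀ e ∈ E, Commute y e
  card : Nat.card Q = q ^ 2
  trans : ∀ x : Ω, u • x = x → x ≠ a → ∃ y ∈ Q, y • b = x
  free : ∀ y ∈ Q, ∀ x : Ω, u • x = x → x ≠ a → y • x = x → y = 1
  invol : ∀ y ∈ Q, y * y = 1 → y ∈ E
  sq : ∀ y ∈ Q, y * y ∈ E
  sq_onto : ∀ e ∈ E, ∃ y ∈ Q, y * y = e
  sq_inj : ∀ y ∈ Q, ∀ y' ∈ Q, y * y = y' * y' → y⁻¹ * y' ∈ E
  comm2 : ∀ y ∈ Q, y ∉ E → ∀ y' ∈ Q, Commute y y' → y' ∈ E ∨ y' * y⁻¹ ∈ E
  centInv : ∀ x ∈ cGrp D u, ∀ e ∈ E, e ≠ 1 → x * e * x⁻¹ * e⁻¹ ∈ kerGrp Ω D u →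
    ∃ y ∈ Q, y⁻¹ * x ∈ kerGrp Ω D u
  big : (q ^ 2 + 1) * q ^ 2 * (q - 1) * Nat.card (kerGrp Ω D u) ≤ Nat.card (cGrp D u)
  invMem : ∀ s ∈ cGrp D u, orderOf s = 2 → s ∈ D
  ker_odd : Odd (Nat.card (kerGrp Ω D u))

theorem eq_one_of_sq_of_odd_card {K : Subgroup G} [Finite G] (hK : Odd (Nat.card K)) {x : G} (hx : x ∈ K)
    {n : ℕ} (h : x ^ 2 ^ n = 1) : x = 1 := by
  have h1 : orderOf x ∣ Nat.card K := Subgroup.orderOf_mk x hx ▸ orderOf_dvd_natCard _
  exact orderOf_eq_one_iff.1 (Nat.eq_one_of_dvd_coprimes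
    ((Nat.coprime_two_left.2 hK).pow_left n) (orderOf_dvd_of_pow_eq_one h) h1)

namespace Crit

variable [Finite G] {D : Set G} (h : Crit Ω D)
include h

theorem exists_szKer (hf : Faithful G Ω) (IH : Below.{u, u} (Nat.card G)) {v : G} {a b : Ω} {E : Subgroup G}
    {q : ℕ} (hv : IsMulti Ω v) (hl : LData D v a b E q 2) : ∃ Q : Subgroup G, SzKer D v a b E q Q := by
  classical
  haveI := Fact.mk Nat.prime_two
  haveI := h.finite_points
  haveI : FaithfulSMul (cImage Ω D v) (MulAction.fixedBy Ω v) :=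
    faithfulSMul_iff.2 fun g hg => Subtype.ext (Equiv.ext hg)
  obtain ⟨U, hB⟩ := h.bend hf IH hv hl
  haveI := hB.simple
  have hK := h.odd_kerGrp hf IH hv hl
  set a' := fixPt hl.fix_a with ha'
  set π := cProj Ω D v with hπ
  have hπs : Function.Surjective π := MonoidHom.rangeRestrict_surjective _
  have hker : ∀ x : cGrp D v, π x = 1 → (x : G) ∈ kerGrp Ω D v := fun x hx => mem_kerGrp.2 ⟨x.2, hx⟩
  have hkerOdd : Odd (Nat.card π.ker) := by
    rwa [← Subgroup.card_map_of_injective (cGrp D v).subtype_injective]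
  obtain ⟨t₀, ht₀, ht₀a, ht₀c⟩ := h.exists_swapper_centralised hl.ne _
    (IsPGroup.of_card (n := 1) (by rw [Nat.card_zpowers, hv.1, pow_one]) : IsPGroup 2 (zpowers v))
    (fun x hx => ⟨zpowers_le.2 (show v ∈ stabilizer G a from hl.fix_a) hx,
      zpowers_le.2 (show v ∈ stabilizer G b from hl.fix_b) hx⟩)
  set t : cGrp D v := ⟨t₀, mem_cGrp ht₀ (ht₀c v (mem_zpowers v)).symm⟩ with ht
  have hta : π t • a' = fixPt hl.fix_b := Subtype.ext ht₀a
  have hta_ne : π t • a' ≠ a' := by rw [hta]; exact fun e => hl.ne (congrArg Subtype.val e).symm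
  have hS := hB.setup (π t) ((h.cImage_crit hv).sq (h.cProj_mem (d := t) ht₀)) hta_ne
  have h2 := hB.rank
  have hU := hB.two
  have hqq := hB.qq_eq
  have hUcard : Nat.card U = qq (cImage Ω D v) a' ^ 2 := by rw [hqq]; exact hB.card_U
  obtain ⟨s₀, hs₀, hq2⟩ := hl.pow
  have hq4 : 4 ≤ q := four_le_q hl
  have hne : Nat.card U ≠ qq (cImage Ω D v) a' := by
    rw [hUcard, hqq]
    intro e
    nlinarith
  have hV : Vg a' (π t) = ⊥ := by
    rcases shape_cases hS h2 with e | ⟨e, -⟩ | ⟨e, -⟩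
    · exact absurd e hne
    · exact e
    · rw [hUcard, hqq] at e
      exact absurd (Nat.pow_right_injective (by omega) e) (by norm_num)
  set Z := involutionGroup hS h2 with hZ
  have hEZ : ∀ e (he : e ∈ E), π ⟨e, hB.memE e he⟩ ∈ Z := fun e he => by
    rcases eq_or_ne e 1 with h1 | h1
    · rw [show (⟨e, hB.memE e he⟩ : cGrp D v) = 1 from Subtype.ext h1, map_one]; exact one_mem _
    · exact Or.inr (hB.J_mem e he h1)
  have hZE : ∀ z ∈ Z, ∃ (e : G) (he : e ∈ E), π ⟨e, hB.memE e he⟩ = z := by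
    rintro z (rfl | hz)
    · exact ⟨1, one_mem _, by rw [show (⟨1, hB.memE 1 (one_mem _)⟩ : cGrp D v) = 1 from rfl, map_one]⟩
    · obtain ⟨e, he, -, hee⟩ := hB.J_onto z hz
      exact ⟨e, he, hee⟩
  -- a lift of `U`
  set W : Subgroup (cGrp D v) := U.comap π with hW
  have hEW : E.subgroupOf (cGrp D v) ≤ W := fun x hx => Z_le hS h2 (hEZ _ hx)
  have hEp : IsPGroup 2 (E.subgroupOf (cGrp D v)) :=
    IsPGroup.comap_subtype (h.isPGroup_memGroup (F := E) ⟨hl.mem, hl.comm⟩)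
  obtain ⟨P, hP⟩ := ((hEp.comap_subtype (K := W))).exists_le_sylow
  set Q₁ : Subgroup (cGrp D v) := (P : Subgroup W).map W.subtype with hQ₁
  have hQ₁p : IsPGroup 2 Q₁ := P.isPGroup'.map _
  have hQ₁W : Q₁ ≤ W := map_subtype_le _
  have hQmap : Q₁.map π = U := by
    refine le_antisymm (fun z ⟨x, hx, e⟩ => e ▸ hQ₁W hx) fun z hz => ?_
    let f : W →* U :=
      { toFun := fun g => ⟨π g, g.2⟩
        map_one' := Subtype.ext (map_one π)
        map_mul' := fun g g' => Subtype.ext (map_mul π (g : cGrp D v) g') }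
    have hfs : Function.Surjective f := fun y => by
      obtain ⟨w, hw⟩ := hπs y
      exact ⟨⟨w, show π w ∈ U by rw [hw]; exact y.2⟩, Subtype.ext hw⟩
    have hmap : (P : Subgroup W).map f = ⊤ := by
      obtain ⟨n, hn'⟩ := hU.exists_card_eq
      have h3 : ((P : Subgroup W).map f).index ∣ 2 ^ n := hn' ▸ Subgroup.index_dvd_card _
      have h4 : ((P : Subgroup W).map f).index ∣ (P : Subgroup W).index := Subgroup.index_map_dvd _ hfs
      obtain ⟨m, -, hm⟩ := (Nat.dvd_prime_pow Nat.prime_two).1 h3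
      rw [← Subgroup.index_eq_one, hm]
      rcases m with _ | m
      · rfl
      · exact absurd ((dvd_pow_self 2 m.succ_ne_zero).trans (hm ▸ h4)) P.not_dvd_index
    obtain ⟨p, hp, hpz⟩ := (hmap ▸ Subgroup.mem_top (⟨z, hz⟩ : U) : (⟨z, hz⟩ : U) ∈ (P : Subgroup W).map f)
    exact ⟨(p : cGrp D v), ⟨p, hp, rfl⟩, congrArg Subtype.val hpz⟩
  have hinj : ∀ x ∈ Q₁, π x = 1 → x = 1 := fun x hx hx1 => by
    obtain ⟨n, hn⟩ := hQ₁p ⟨x, hx⟩
    exact eq_one_of_sq_of_odd_card hkerOdd (show x ∈ π.ker from hx1) (congrArg Subtype.val hn)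
  have hinj' : ∀ x ∈ Q₁, ∀ y ∈ Q₁, π x = π y → x = y := fun x hx y hy e =>
    inv_mul_eq_one.1 (hinj _ (mul_mem (inv_mem hx) hy) (by rw [map_mul, map_inv, e, inv_mul_cancel]))
  have hEQ₁ : ∀ e (he : e ∈ E), (⟨e, hB.memE e he⟩ : cGrp D v) ∈ Q₁ := fun e he =>
    ⟨⟨_, hEW (show (⟨e, hB.memE e he⟩ : cGrp D v) ∈ E.subgroupOf (cGrp D v) from he)⟩,
      hP (show _ ∈ (E.subgroupOf (cGrp D v)).comap W.subtype from he), rfl⟩
  have hQU : ∀ x ∈ Q₁, π x ∈ U := fun x hx => hQ₁W hx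
  have hmemE : ∀ x ∈ Q₁, π x ∈ Z → (x : G) ∈ E := fun x hx hxz => by
    obtain ⟨e, he, hee⟩ := hZE _ hxz
    rw [hinj' x hx _ (hEQ₁ e he) hee.symm]
    exact he
  have hptne : ∀ {x : Ω} (hx : v • x = x), x ≠ a → fixPt hx ≠ a' := fun hx hxa e => hxa (congrArg Subtype.val e)
  have hsqE : ∀ x ∈ Q₁, ((x * x : cGrp D v) : G) ∈ E := fun x hx =>
    hmemE _ (mul_mem hx hx) (by rw [map_mul]; exact sq_mem_Z hS h2 hU (hQU x hx))
  have hcent : ∀ x ∈ Q₁, ∀ e (he : e ∈ E), x * ⟨e, hB.memE e he⟩ = ⟨e, hB.memE e he⟩ * x := fun x hx e he =>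
    hinj' _ (mul_mem hx (hEQ₁ e he)) _ (mul_mem (hEQ₁ e he) hx) (by
      rw [map_mul, map_mul]; exact (comm_Z hS h2 (hEZ e he) (hQU x hx)).symm)
  have hsq : ∀ e (he : e ∈ E), ∃ x ∈ Q₁, ((x * x : cGrp D v) : G) = e := fun e he => by
    obtain ⟨y, hy, hyy⟩ := sq_onto hS h2 hU hne (hEZ e he)
    obtain ⟨x, hx, rfl⟩ := hQmap.ge hy
    refine ⟨x, hx, congrArg Subtype.val (hinj' _ (mul_mem hx hx) _ (hEQ₁ e he) ?_)⟩
    rw [map_mul, hyy]
  have hEsq : ∀ e ∈ E, e * e = 1 := fun e he => by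
    rcases eq_or_ne e 1 with h1 | h1
    · rw [h1, one_mul]
    · exact h.sq (hl.mem e he h1).1
  have hcardQ : Nat.card Q₁ = q ^ 2 := by
    rw [← hB.card_U, ← hQmap]
    exact Nat.card_congr (Equiv.ofBijective
      (fun x : Q₁ => (⟨π x, mem_map_of_mem π x.2⟩ : Q₁.map π))
      ⟨fun x y e => Subtype.ext (hinj' x x.2 y y.2 (congrArg Subtype.val e)), fun ⟨_, x, hx, e⟩ =>
        ⟨⟨x, hx⟩, Subtype.ext e⟩⟩)
  set Q := Q₁.map (cGrp D v).subtype with hQ
  have hQle : Q ≤ cGrp D v := map_subtype_le _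
  have hQmem : ∀ {y}, y ∈ Q → ∃ hy : y ∈ cGrp D v, (⟨y, hy⟩ : cGrp D v) ∈ Q₁ := by
    rintro _ ⟨x, hx, rfl⟩; exact ⟨x.2, hx⟩
  have hcent' : ∀ y ∈ Q, ∀ e ∈ E, Commute y e := fun y hy e he => by
    obtain ⟨hyc, hy⟩ := hQmem hy
    exact congrArg Subtype.val (hcent _ hy e he)
  refine ⟨Q,
    { le := hQle, two := hQ₁p.map _, E_le := fun e he => ⟨_, hEQ₁ e he, rfl⟩, fix_a := ?_,
      cent := hcent', card := ?_, trans := ?_, free := ?_, invol := ?_, sq := ?_,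
      sq_onto := fun e he => ?_, sq_inj := ?_, comm2 := ?_, centInv := ?_, big := ?_, invMem := ?_,
      ker_odd := hK }⟩
  · rintro _ ⟨x, hx, rfl⟩
    exact congrArg Subtype.val (hS.le (hQU x hx))
  · rw [Subgroup.card_map_of_injective (cGrp D v).subtype_injective, hcardQ]
  · intro x hx hxa
    obtain ⟨⟨z, hz⟩, hzx, -⟩ := existsUnique_smul hS (fixPt hl.fix_b) (fixPt hx)
      (hptne hl.fix_b hl.ne.symm) (hptne hx hxa)
    obtain ⟨y, hy, rfl⟩ := hQmap.ge hz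
    exact ⟨y, ⟨y, hy, rfl⟩, congrArg Subtype.val hzx⟩
  · rintro _ ⟨y, hy, rfl⟩ x hx hxa hyx
    exact congrArg Subtype.val (hinj y hy (eq_one_of_fix hS (hQU y hy) (hptne hx hxa) (Subtype.ext hyx)))
  · rintro _ ⟨y, hy, rfl⟩ hyy
    exact hmemE y hy (mem_Z_of_sq hS h2 (hQU y hy) (by
      rw [← map_mul, show y * y = 1 from Subtype.ext hyy, map_one]))
  · rintro _ ⟨y, hy, rfl⟩
    exact hsqE y hy
  · obtain ⟨x, hx, hxe⟩ := hsq e he
    exact ⟨x, ⟨x, hx, rfl⟩, hxe⟩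
  · -- the squares
    intro y hy y' hy' heq
    choose s hs hse using hsq
    let g : E × E → Q₁ := fun p => ⟨s p.1 p.1.2 * ⟨p.2, hB.memE p.2 p.2.2⟩,
      mul_mem (hs p.1 p.1.2) (hEQ₁ p.2 p.2.2)⟩
    have hgsq : ∀ p : E × E, ((g p : cGrp D v) : G) * (g p : cGrp D v) = p.1 := fun p => by
      set S₀ : G := ((s p.1 p.1.2 : cGrp D v) : G) with hS₀
      show S₀ * p.2 * (S₀ * p.2) = p.1
      have hc : (p.2 : G) * S₀ = S₀ * p.2 := (congrArg Subtype.val (hcent _ (hs p.1 p.1.2) p.2 p.2.2)).symm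
      rw [show S₀ * p.2 * (S₀ * p.2) = S₀ * ((p.2 : G) * S₀) * p.2 by group, hc,
        show S₀ * (S₀ * p.2) * p.2 = S₀ * S₀ * ((p.2 : G) * p.2) by group, hEsq _ p.2.2, mul_one]
      exact hse p.1 p.1.2
    have hgb : Function.Bijective g := by
      refine (Nat.bijective_iff_injective_and_card g).2 ⟨fun p p' e => ?_, ?_⟩
      · have e1 : p.1 = p'.1 := Subtype.ext (by rw [← hgsq p, ← hgsq p', e])
        obtain ⟨e₁, e₂⟩ := p
        obtain ⟨e₁', e₂'⟩ := p'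
        obtain rfl : e₁ = e₁' := e1
        have h3 := mul_left_cancel (congrArg Subtype.val e :)
        exact Prod.ext rfl (Subtype.ext (congrArg Subtype.val h3 :))
      · rw [Nat.card_prod, hl.card_E, hcardQ, pow_two]
    obtain ⟨hyc, hy1⟩ := hQmem hy
    obtain ⟨hyc', hy1'⟩ := hQmem hy'
    obtain ⟨p, hp⟩ := hgb.2 ⟨_, hy1⟩
    obtain ⟨p', hp'⟩ := hgb.2 ⟨_, hy1'⟩
    have e1 : ((g p : cGrp D v) : G) = y := by rw [hp]
    have e2 : ((g p' : cGrp D v) : G) = y' := by rw [hp']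
    have e3 : p.1 = p'.1 := Subtype.ext (by rw [← hgsq p, ← hgsq p', e1, e2, heq])
    have e4 : y⁻¹ * y' = (p.2 : G)⁻¹ * p'.2 := by
      rw [← e1, ← e2]
      show ((s p.1 p.1.2 : cGrp D v) * (p.2 : G))⁻¹ * ((s p'.1 p'.1.2 : cGrp D v) * (p'.2 : G)) = _
      obtain ⟨e₁, e₂⟩ := p
      obtain ⟨e₁', e₂'⟩ := p'
      obtain rfl : e₁ = e₁' := e3
      group
    rw [e4]
    exact mul_mem (inv_mem p.2.2) p'.2.2
  · intro y hy hyE y' hy' hc
    obtain ⟨hyc, hy1⟩ := hQmem hy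
    obtain ⟨hyc', hy1'⟩ := hQmem hy'
    rcases cent_two hS h2 hU hUcard (hQU _ hy1) (fun hz => hyE (hmemE _ hy1 hz)) (hQU _ hy1')
        ((show Commute (⟨y, hyc⟩ : cGrp D v) ⟨y', hyc'⟩ from Subtype.ext hc.eq).map π) with h1 | h1
    · exact Or.inl (hmemE _ hy1' h1)
    · exact Or.inr (hmemE _ (mul_mem hy1' (inv_mem hy1)) (by rw [map_mul, map_inv]; exact h1))
  · -- centralisers of the elements of `E`
    intro x hx e he he1 hc
    set ξ := π ⟨x, hx⟩ with hξ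
    set j := π ⟨e, hB.memE e he⟩ with hj
    have hjJ := hB.J_mem e he he1
    have hcξ : ξ * j = j * ξ := by
      obtain ⟨hm, he2⟩ := mem_kerGrp.1 hc
      have h1 : π (⟨x, hx⟩ * ⟨e, hB.memE e he⟩ * ⟨x, hx⟩⁻¹ * ⟨e, hB.memE e he⟩⁻¹) = 1 := he2
      rw [map_mul, map_mul, map_mul, map_inv, map_inv, ← hξ, ← hj] at h1
      exact mul_inv_eq_iff_eq_mul.1 (mul_inv_eq_one.1 h1)
    have hξa : ξ • a' = a' := CfsgLib.Lie.RankOne.fix_of_commute hS hjJ.2.1 hjJ.2.2 hjJ.1 hcξ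
    obtain ⟨y, hy, d, hd, he'⟩ := stab_eq_mul hS hξa
    have hdj : d * j = j * d := by
      have h1 : y * j = j * y := (J_central hS h2 hjJ hy).symm
      have h3 : y * (d * j) = y * (j * d) := by rw [← mul_assoc, ← he', hcξ, he', ← mul_assoc j, ← h1, mul_assoc]
      exact mul_left_cancel h3
    have hd1 : d = 1 := by
      obtain ⟨⟨s, r⟩, ⟨hs, hr, hsr⟩, -⟩ := structure_equation hS
      obtain ⟨k, ⟨hk, hkj⟩, -⟩ := exists_unique_K hS hs hjJ
      have hks : k * d * k⁻¹ * s = s * (k * d * k⁻¹) := by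
        rw [show j = k⁻¹ * s * k from hkj.symm] at hdj
        calc k * d * k⁻¹ * s = k * (d * (k⁻¹ * s * k)) * k⁻¹ := by group
          _ = k * (k⁻¹ * s * k * d) * k⁻¹ := by rw [hdj]
          _ = s * (k * d * k⁻¹) := by group
      have hkd : k * d * k⁻¹ ∈ stabilizer (cImage Ω D v) a' ⊓ stabilizer (cImage Ω D v) (π t • a') :=
        mul_mem (mul_mem hk.1 hd) (inv_mem hk.1)
      have hVd : k * d * k⁻¹ ∈ Vg a' (π t) :=
        mem_Vg.2 ⟨hkd, (centralizer_distinguished hS hs hr hsr hkd).2 hks⟩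
      rw [hV, Subgroup.mem_bot] at hVd
      exact conj_eq_one_iff.1 hVd
    obtain ⟨w, hw, hwy⟩ := hQmap.ge hy
    refine ⟨w, ⟨w, hw, rfl⟩, hker (w⁻¹ * ⟨x, hx⟩) ?_⟩
    rw [map_mul, map_inv, hwy, ← hξ, he', hd1, mul_one, inv_mul_cancel]
  · -- the order
    have h1 : Nat.card π.ker * Nat.card (cImage Ω D v) = Nat.card (cGrp D v) := by
      rw [← Subgroup.card_mul_index π.ker, Subgroup.index_ker]
      congr 1
      exact Nat.card_congr (Equiv.ofBijective (fun y => (⟨y, hπs y⟩ : π.range))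
        ⟨fun y z e => congrArg Subtype.val e, fun y => ⟨y.1, Subtype.ext rfl⟩⟩)
    have h3 : Nat.card (kerGrp Ω D v) = Nat.card π.ker :=
      Subgroup.card_map_of_injective (cGrp D v).subtype_injective
    rw [← h1, h3, card_group hS, hB.card_U, mul_comm (Nat.card π.ker)]
    refine Nat.mul_le_mul_right _ ?_
    have hJ : q - 1 ≤ Nat.card ↥(stabilizer (cImage Ω D v) a' ⊓ stabilizer (cImage Ω D v) (π t • a')) := by
      rw [CfsgLib.Lie.RankOneClass.card_D hS]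
      refine le_trans (le_of_eq ?_) (Nat.le_mul_of_pos_left _ Nat.card_pos)
      have h1 := hqq
      rw [qq] at h1
      omega
    calc (q ^ 2 + 1) * q ^ 2 * (q - 1) = q ^ 2 * (q - 1) * (q ^ 2 + 1) := by ring
      _ ≤ _ := Nat.mul_le_mul_right _ (Nat.mul_le_mul_left _ hJ)
  · -- the involutions are members
    intro s hs hs2
    have hss : s * s = 1 := by rw [← pow_two, ← hs2, pow_orderOf_eq_one]
    have hs1 : π ⟨s, hs⟩ ≠ 1 := fun e => by
      have h1 : (⟨s, hs⟩ : cGrp D v) = 1 :=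
        eq_one_of_sq_of_odd_card hkerOdd e (n := 1) (by
          rw [pow_one, pow_two]; exact Subtype.ext hss)
      rw [show s = 1 from congrArg Subtype.val h1, orderOf_one] at hs2
      omega
    have hπss : π ⟨s, hs⟩ * π ⟨s, hs⟩ = 1 := by
      rw [← map_mul, show (⟨s, hs⟩ : cGrp D v) * ⟨s, hs⟩ = 1 from Subtype.ext hss, map_one]
    obtain ⟨c, hc⟩ := CfsgLib.Lie.RankOne.exists_fix hS hπss
    obtain ⟨g₀, hg₀⟩ := transitive' hS c a'
    obtain ⟨g, rfl⟩ := hπs g₀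
    set x : cGrp D v := g * ⟨s, hs⟩ * g⁻¹ with hx
    have hxJ : π x ∈ Cfsg.involutionsIn (stabilizer (cImage Ω D v) a' : Set (cImage Ω D v)) := by
      have e : π x = π g * π ⟨s, hs⟩ * (π g)⁻¹ := by rw [hx, map_mul, map_mul, map_inv]
      rw [e]
      refine ⟨?_, conj_involution hS hs1 hπss (π g)⟩
      show (π g * π ⟨s, hs⟩ * (π g)⁻¹) • a' = a'
      rw [mul_smul, mul_smul, ← hg₀, inv_smul_smul, hc]
    obtain ⟨e, he, he1, hee⟩ := hB.J_onto _ hxJ
    have hem := (hl.mem e he he1).1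
    have hodd : Odd (orderOf ((e : G) * x)) := by
      refine CfsgLib.ZStar.odd_of_dvd ?_ hK
      have hmem := hker (⟨e, hB.memE e he⟩ * x) (by
        rw [map_mul, hee, hxJ.2.2])
      exact Subgroup.orderOf_mk _ hmem ▸ orderOf_dvd_natCard _
    have hxx : (x : G) * x = 1 := by
      rw [← Subgroup.coe_mul, show x * x = 1 by
        rw [hx, conj_mul, show (⟨s, hs⟩ : cGrp D v) * ⟨s, hs⟩ = 1 from Subtype.ext hss, mul_one,
          mul_inv_cancel]]
      rfl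
    obtain ⟨n, hn⟩ := hodd
    have hxD : (x : G) ∈ D := by
      have h3 : e * (e * (x : G)) ^ (2 * (n + 1)) = x := by
        rw [show 2 * (n + 1) = orderOf (e * (x : G)) + 1 by omega, pow_succ, pow_orderOf_eq_one, one_mul,
          ← mul_assoc, h.sq hem, one_mul]
      rw [← h3, dih_even (h.sq hem) hxx (n + 1)]
      simpa using h.conj e hem ((e * (x : G)) ^ (n + 1))⁻¹
    have := h.conj _ hxD (g : G)⁻¹
    rwa [hx, Subgroup.coe_mul, Subgroup.coe_mul, Subgroup.coe_inv,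
      show (g : G)⁻¹ * ((g : G) * s * (g : G)⁻¹) * (g : G)⁻¹⁻¹ = s by group] at this

end Crit

end CfsgLib.AschCrit
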